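import Cfsg.Agent.Lib.G2Gauss.Levi

/-!
An element of the Levi subgroup GL₂ without eigenvalues in F and of determinant different from 1 has no
fixed point on either radical.
-/

set_option autoImplicit false
set_option maxRecDepth 100000
set_option linter.unusedSectionVars false

namespace Cfsg.Agent.Lib.G2Gauss

open Cfsg.Lie Cfsg.Agent.Lib.ChevStructure
open scoped MatrixGroups Matrix

variable {F : Type*} [Field F]

/-- Indices of root vectors. -/
def ix (n : Fin 12) : chevG2.Idx := Sum.inr (rt n)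

theorem ix_inj {m n : Fin 12} : ix m = ix n ↔ m = n :=
  ⟨fun h => Fin.ext (congrArg Fin.val (Sum.inr.inj h) :), fun h => h ▸ rfl⟩

theorem inl_ne_ix (i : Fin chevG2.rank) (n : Fin 12) : (Sum.inl i : chevG2.Idx) ≠ ix n := Sum.inl_ne_inr

/-- The functional 2 δ₀ + 3 δ₁. -/
theorem zkey (c : chevG2.Idx) : (if c = Sum.inl i0 then (1 : F) else 0) * 2 +
    (if c = Sum.inl i1 then 1 else 0) * 3 =
      (if c = Sum.inl i0 then 2 else 0) + if c = Sum.inl i1 then 3 else 0 := by
  simp only [ite_mul, one_mul, zero_mul]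

/-- The action of M on two basis vectors. -/
def Cols (M : Matrix chevG2.Idx chevG2.Idx F) (k : Fin 2 → chevG2.Idx) (R : Matrix (Fin 2) (Fin 2) F) : Prop :=
  ∀ (j : Fin 2) (c : chevG2.Idx), M c (k j) = ∑ i, if c = k i then R i j else 0

/-- J g J for J = diag(1, -1). -/
def flip2 (g : Matrix (Fin 2) (Fin 2) F) : Matrix (Fin 2) (Fin 2) F :=
  !![g 0 0, -g 0 1; -g 1 0, g 1 1]

/-- The invariants of an element of the Levi subgroup of b. -/
structure Inv (M : Matrix chevG2.Idx chevG2.Idx F) (g : Matrix (Fin 2) (Fin 2) F) : Prop where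
  row : ∀ c, M (Sum.inl i0) c = if c = Sum.inl i0 then 1 else 0
  zvec : ∀ c, M c (Sum.inl i0) * 2 + M c (Sum.inl i1) * 3 =
    (if c = Sum.inl i0 then 2 else 0) + if c = Sum.inl i1 then 3 else 0
  col2 : ∀ c, M c (ix 2) = if c = ix 2 then g.det⁻¹ else 0
  col9 : ∀ c, M c (ix 9) = if c = ix 9 then g.det else 0
  colA : Cols M ![ix 4, ix 3] (g.det⁻¹ • flip2 g)
  colB : Cols M ![ix 1, ix 0] ((g.det⁻¹ * g.det⁻¹) • flip2 g)

theorem Cols.mk' {M : Matrix chevG2.Idx chevG2.Idx F} {a b : chevG2.Idx} {R : Matrix (Fin 2) (Fin 2) F}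
    (h0 : ∀ c, M c a = (if c = a then R 0 0 else 0) + if c = b then R 1 0 else 0)
    (h1 : ∀ c, M c b = (if c = a then R 0 1 else 0) + if c = b then R 1 1 else 0) : Cols M ![a, b] R :=
  Fin.forall_fin_two.2 ⟨fun c => by rw [Fin.sum_univ_two]; exact h0 c, fun c => by rw [Fin.sum_univ_two]; exact h1 c⟩

theorem Cols.mul {M N : Matrix chevG2.Idx chevG2.Idx F} {k : Fin 2 → chevG2.Idx} (hk : Function.Injective k)
    {R S : Matrix (Fin 2) (Fin 2) F} (hM : Cols M k R) (hN : Cols N k S) : Cols (M * N) k (R * S) := by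
  intro j c
  rw [Matrix.mul_apply]
  simp only [hN j, Finset.mul_sum, mul_ite, mul_zero]
  rw [Finset.sum_comm]
  simp only [Finset.sum_ite_eq', Finset.mem_univ, if_true]
  simp only [Fin.sum_univ_two, hM 0 c, hM 1 c, Matrix.mul_apply]
  split_ifs <;> ring

theorem flip2_mul (g h : Matrix (Fin 2) (Fin 2) F) : flip2 (g * h) = flip2 g * flip2 h := by
  ext i j
  fin_cases i <;> fin_cases j <;> simp [flip2, Matrix.mul_apply, Fin.sum_univ_two] <;> ring

theorem pairA_inj : Function.Injective ![ix 4, ix 3] := by decide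
theorem pairB_inj : Function.Injective ![ix 1, ix 0] := by decide

theorem Inv.mul {M N : Matrix chevG2.Idx chevG2.Idx F} {g h : Matrix (Fin 2) (Fin 2) F}
    (hM : Inv M g) (hN : Inv N h) : Inv (M * N) (g * h) := by
  refine ⟨fun c => ?_, fun c => ?_, fun c => ?_, fun c => ?_, ?_, ?_⟩
  · simp [Matrix.mul_apply, hM.row, hN.row]
  · have e : (M * N) c (Sum.inl i0) * 2 + (M * N) c (Sum.inl i1) * 3 =
        ∑ b, M c b * (N b (Sum.inl i0) * 2 + N b (Sum.inl i1) * 3) := by
      rw [Matrix.mul_apply, Matrix.mul_apply, Finset.sum_mul, Finset.sum_mul, ← Finset.sum_add_distrib]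
      exact Finset.sum_congr rfl fun b _ => by ring
    rw [e]
    simp only [hN.zvec, mul_add, Finset.sum_add_distrib, mul_ite, mul_zero, Finset.sum_ite_eq', Finset.mem_univ,
      if_true, hM.zvec c]
  · rw [Matrix.mul_apply]
    simp only [hN.col2, mul_ite, mul_zero, Finset.sum_ite_eq', Finset.mem_univ, if_true, hM.col2 c, ite_mul,
      zero_mul, Matrix.det_mul, mul_inv_rev, mul_comm h.det⁻¹]
  · rw [Matrix.mul_apply]
    simp only [hN.col9, mul_ite, mul_zero, Finset.sum_ite_eq', Finset.mem_univ, if_true, hM.col9 c, ite_mul,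
      zero_mul, Matrix.det_mul]
  · have := hM.colA.mul pairA_inj hN.colA
    rwa [Matrix.smul_mul, Matrix.mul_smul, smul_smul, ← flip2_mul, ← mul_inv_rev, mul_comm h.det,
      ← Matrix.det_mul] at this
  · have := hM.colB.mul pairB_inj hN.colB
    rw [Matrix.smul_mul, Matrix.mul_smul, smul_smul, ← flip2_mul] at this
    have hs : (g.det * h.det)⁻¹ * (g.det * h.det)⁻¹ = g.det⁻¹ * g.det⁻¹ * (h.det⁻¹ * h.det⁻¹) := by
      rw [mul_inv_rev]; ring
    rw [Matrix.det_mul, hs]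
    exact this

theorem flip2_one : flip2 (1 : Matrix (Fin 2) (Fin 2) F) = 1 := by
  ext i j; fin_cases i <;> fin_cases j <;> simp [flip2]

theorem Inv.one : Inv (1 : Matrix chevG2.Idx chevG2.Idx F) 1 := by
  refine ⟨fun c => ?_, fun c => ?_, fun c => ?_, fun c => ?_, Cols.mk' (fun c => ?_) (fun c => ?_),
    Cols.mk' (fun c => ?_) (fun c => ?_)⟩
  · simp [Matrix.one_apply, eq_comm]
  · rw [Matrix.one_apply, Matrix.one_apply]; exact zkey c
  all_goals simp [Matrix.one_apply, flip2]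

/-- An entry of a root element. -/
theorem X_entry (n : Fin 12) (t : F) (a b : chevG2.Idx) :
    ((X n t : GL chevG2.Idx F) : Matrix chevG2.Idx chevG2.Idx F) a b = (if a = b then 1 else 0) +
      (t * (E chevG2 1 (rt n) a b : F) + t ^ 2 * (E chevG2 2 (rt n) a b : F) +
        t ^ 3 * (E chevG2 3 (rt n) a b : F)) := by
  rw [X, C.X_val, xI, Finset.sum_range_succ' _ 3, C.Ek_zero]
  simp [Finset.sum_range_succ, Ek, Matrix.one_apply]
  ring

/-- The invariants of the two root elements of the Levi subgroup. -/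
theorem Inv.X6 (t : F) : Inv ((X 6 t : GL chevG2.Idx F) : Matrix chevG2.Idx chevG2.Idx F) !![1, t; 0, 1] := by
  have hd : (!![1, t; 0, 1] : Matrix (Fin 2) (Fin 2) F).det = 1 := by simp [Matrix.det_fin_two_of]
  have hrow : ∀ c : chevG2.Idx, E chevG2 1 (rt 6) (Sum.inl i0) c = 0 ∧
      E chevG2 2 (rt 6) (Sum.inl i0) c = 0 ∧ E chevG2 3 (rt 6) (Sum.inl i0) c = 0 := by decide +kernel
  have hz : ∀ c : chevG2.Idx,
      E chevG2 1 (rt 6) c (Sum.inl i0) * 2 + E chevG2 1 (rt 6) c (Sum.inl i1) * 3 = 0 ∧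
      E chevG2 2 (rt 6) c (Sum.inl i0) * 2 + E chevG2 2 (rt 6) c (Sum.inl i1) * 3 = 0 ∧
      E chevG2 3 (rt 6) c (Sum.inl i0) * 2 + E chevG2 3 (rt 6) c (Sum.inl i1) * 3 = 0 := by decide +kernel
  have h0 : ∀ c : chevG2.Idx, ∀ n ∈ ([2, 9, 4, 1] : List (Fin 12)),
      E chevG2 1 (rt 6) c (ix n) = 0 ∧ E chevG2 2 (rt 6) c (ix n) = 0 ∧
        E chevG2 3 (rt 6) c (ix n) = 0 := by decide +kernel
  have h1 : ∀ c : chevG2.Idx,
      (E chevG2 1 (rt 6) c (ix 3) = (if c = ix 4 then -1 else 0) ∧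
        E chevG2 2 (rt 6) c (ix 3) = 0 ∧ E chevG2 3 (rt 6) c (ix 3) = 0) ∧
      (E chevG2 1 (rt 6) c (ix 0) = (if c = ix 1 then -1 else 0) ∧
        E chevG2 2 (rt 6) c (ix 0) = 0 ∧ E chevG2 3 (rt 6) c (ix 0) = 0) := by decide +kernel
  have e0 : ∀ c : chevG2.Idx, ∀ n ∈ ([2, 9, 4, 1] : List (Fin 12)),
      ((X 6 t : GL chevG2.Idx F) : Matrix chevG2.Idx chevG2.Idx F) c (ix n) = if c = ix n then 1 else 0 := by
    intro c n hn
    obtain ⟨a, b, d⟩ := h0 c n hn
    rw [X_entry, a, b, d]; simp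
  refine ⟨fun c => ?_, fun c => ?_, fun c => ?_, fun c => ?_, Cols.mk' (fun c => ?_) (fun c => ?_),
    Cols.mk' (fun c => ?_) (fun c => ?_)⟩
  · obtain ⟨a, b, d⟩ := hrow c
    rw [X_entry, a, b, d]; simp [eq_comm]
  · obtain ⟨a, b, d⟩ := hz c
    have k0 := congrArg (Int.cast : ℤ → F) a
    have k1 := congrArg (Int.cast : ℤ → F) b
    have k2 := congrArg (Int.cast : ℤ → F) d
    push_cast at k0 k1 k2
    rw [X_entry, X_entry]
    linear_combination t * k0 + t ^ 2 * k1 + t ^ 3 * k2 + zkey (F := F) c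
  · rw [e0 c 2 (by decide), hd, inv_one]
  · rw [e0 c 9 (by decide), hd]
  · rw [e0 c 4 (by decide), hd]
    simp [flip2]
  · obtain ⟨a, b, d⟩ := (h1 c).1
    rw [X_entry, a, b, d, hd, apply_ite (Int.cast : ℤ → F)]
    simp only [flip2, Matrix.smul_apply, Matrix.of_apply, Matrix.cons_val', Matrix.cons_val_zero,
      Matrix.cons_val_one, Matrix.cons_val_fin_one, inv_one, smul_eq_mul, Int.cast_neg, Int.cast_one, Int.cast_zero]
    split_ifs <;> ring
  · rw [e0 c 1 (by decide), hd]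
    simp [flip2]
  · obtain ⟨a, b, d⟩ := (h1 c).2
    rw [X_entry, a, b, d, hd, apply_ite (Int.cast : ℤ → F)]
    simp only [flip2, Matrix.smul_apply, Matrix.of_apply, Matrix.cons_val', Matrix.cons_val_zero,
      Matrix.cons_val_one, Matrix.cons_val_fin_one, inv_one, smul_eq_mul, Int.cast_neg, Int.cast_one, Int.cast_zero]
    split_ifs <;> ring

theorem Inv.X5 (t : F) : Inv ((X 5 t : GL chevG2.Idx F) : Matrix chevG2.Idx chevG2.Idx F) !![1, 0; t, 1] := by
  have hd : (!![1, 0; t, 1] : Matrix (Fin 2) (Fin 2) F).det = 1 := by simp [Matrix.det_fin_two_of]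
  have hrow : ∀ c : chevG2.Idx, E chevG2 1 (rt 5) (Sum.inl i0) c = 0 ∧
      E chevG2 2 (rt 5) (Sum.inl i0) c = 0 ∧ E chevG2 3 (rt 5) (Sum.inl i0) c = 0 := by decide +kernel
  have hz : ∀ c : chevG2.Idx,
      E chevG2 1 (rt 5) c (Sum.inl i0) * 2 + E chevG2 1 (rt 5) c (Sum.inl i1) * 3 = 0 ∧
      E chevG2 2 (rt 5) c (Sum.inl i0) * 2 + E chevG2 2 (rt 5) c (Sum.inl i1) * 3 = 0 ∧
      E chevG2 3 (rt 5) c (Sum.inl i0) * 2 + E chevG2 3 (rt 5) c (Sum.inl i1) * 3 = 0 := by decide +kernel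
  have h0 : ∀ c : chevG2.Idx, ∀ n ∈ ([2, 9, 3, 0] : List (Fin 12)),
      E chevG2 1 (rt 5) c (ix n) = 0 ∧ E chevG2 2 (rt 5) c (ix n) = 0 ∧
        E chevG2 3 (rt 5) c (ix n) = 0 := by decide +kernel
  have h1 : ∀ c : chevG2.Idx,
      (E chevG2 1 (rt 5) c (ix 4) = (if c = ix 3 then -1 else 0) ∧
        E chevG2 2 (rt 5) c (ix 4) = 0 ∧ E chevG2 3 (rt 5) c (ix 4) = 0) ∧
      (E chevG2 1 (rt 5) c (ix 1) = (if c = ix 0 then -1 else 0) ∧
        E chevG2 2 (rt 5) c (ix 1) = 0 ∧ E chevG2 3 (rt 5) c (ix 1) = 0) := by decide +kernel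
  have e0 : ∀ c : chevG2.Idx, ∀ n ∈ ([2, 9, 3, 0] : List (Fin 12)),
      ((X 5 t : GL chevG2.Idx F) : Matrix chevG2.Idx chevG2.Idx F) c (ix n) = if c = ix n then 1 else 0 := by
    intro c n hn
    obtain ⟨a, b, d⟩ := h0 c n hn
    rw [X_entry, a, b, d]; simp
  refine ⟨fun c => ?_, fun c => ?_, fun c => ?_, fun c => ?_, Cols.mk' (fun c => ?_) (fun c => ?_),
    Cols.mk' (fun c => ?_) (fun c => ?_)⟩
  · obtain ⟨a, b, d⟩ := hrow c
    rw [X_entry, a, b, d]; simp [eq_comm]
  · obtain ⟨a, b, d⟩ := hz c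
    have k0 := congrArg (Int.cast : ℤ → F) a
    have k1 := congrArg (Int.cast : ℤ → F) b
    have k2 := congrArg (Int.cast : ℤ → F) d
    push_cast at k0 k1 k2
    rw [X_entry, X_entry]
    linear_combination t * k0 + t ^ 2 * k1 + t ^ 3 * k2 + zkey (F := F) c
  · rw [e0 c 2 (by decide), hd, inv_one]
  · rw [e0 c 9 (by decide), hd]
  · obtain ⟨a, b, d⟩ := (h1 c).1
    rw [X_entry, a, b, d, hd, apply_ite (Int.cast : ℤ → F)]
    simp only [flip2, Matrix.smul_apply, Matrix.of_apply, Matrix.cons_val', Matrix.cons_val_zero,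
      Matrix.cons_val_one, Matrix.cons_val_fin_one, inv_one, smul_eq_mul, Int.cast_neg, Int.cast_one, Int.cast_zero]
    split_ifs <;> ring
  · rw [e0 c 3 (by decide), hd]
    simp [flip2]
  · obtain ⟨a, b, d⟩ := (h1 c).2
    rw [X_entry, a, b, d, hd, apply_ite (Int.cast : ℤ → F)]
    simp only [flip2, Matrix.smul_apply, Matrix.of_apply, Matrix.cons_val', Matrix.cons_val_zero,
      Matrix.cons_val_one, Matrix.cons_val_fin_one, inv_one, smul_eq_mul, Int.cast_neg, Int.cast_one, Int.cast_zero]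
    split_ifs <;> ring
  · rw [e0 c 0 (by decide), hd]
    simp [flip2]

theorem T_entry (x y : Fˣ) (a b : chevG2.Idx) :
    ((T x y : GL chevG2.Idx F) : Matrix chevG2.Idx chevG2.Idx F) a b =
      if a = b then Sum.elim (fun _ => (1 : F)) (fun s => (C.chA (cv x y) s : F)) b else 0 := by
  show Matrix.diagonal _ a b = _
  rw [Matrix.diagonal_apply]
  split_ifs with h
  · subst h
    rcases a with a | a <;> rfl
  · rfl

theorem Inv.Tdd (d : Fˣ) :
    Inv ((T d d : GL chevG2.Idx F) : Matrix chevG2.Idx chevG2.Idx F) !![1, 0; 0, (d : F)] := by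
  have hd : (!![1, 0; 0, (d : F)] : Matrix (Fin 2) (Fin 2) F).det = d := by simp [Matrix.det_fin_two_of]
  have hd0 : (d : F) ≠ 0 := d.ne_zero
  have hT : ∀ (n : Fin 12) (k : ℤ), A chevG2 i0 (rt n) + A chevG2 i1 (rt n) = k → ∀ c,
      ((T d d : GL chevG2.Idx F) : Matrix chevG2.Idx chevG2.Idx F) c (ix n) =
        if c = ix n then (d : F) ^ k else 0 := by
    intro n k hk c
    rw [T_entry, ← hk]
    show (if c = ix n then (C.chA (cv d d) (rt n) : F) else 0) = _
    rw [chA_eq, chi, ← zpow_add, Units.val_zpow_eq_zpow_val]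
  refine ⟨fun c => ?_, fun c => ?_, fun c => ?_, fun c => ?_, Cols.mk' (fun c => ?_) (fun c => ?_),
    Cols.mk' (fun c => ?_) (fun c => ?_)⟩
  · rw [T_entry]
    by_cases h : c = Sum.inl i0
    · subst h; simp
    · simp [Ne.symm h, h]
  · rw [T_entry, T_entry]
    exact zkey c
  · rw [hT 2 (-1) (by decide +kernel), hd, zpow_neg_one]
  · rw [hT 9 1 (by decide +kernel), hd, zpow_one]
  · rw [hT 4 (-1) (by decide +kernel), hd]
    simp [flip2, zpow_neg_one]
  · rw [hT 3 0 (by decide +kernel), hd]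
    simp [flip2, hd0]
  · rw [hT 1 (-2) (by decide +kernel), hd]
    simp [flip2, zpow_neg, pow_two, zpow_two]
  · rw [hT 0 (-1) (by decide +kernel), hd]
    simp [flip2, hd0, mul_assoc]

/-- The invariants hold on the whole Levi subgroup. -/
theorem inv_psi (g : GL (Fin 2) F) :
    Inv ((psi g : GL chevG2.Idx F) : Matrix chevG2.Idx chevG2.Idx F) g.1 := by
  let M : Subgroup (Matrix.SpecialLinearGroup (Fin 2) F) :=
    { carrier := {S | Inv ((phi 6 S : GL chevG2.Idx F) : Matrix chevG2.Idx chevG2.Idx F) S.1 ∧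
        Inv ((phi 6 S⁻¹ : GL chevG2.Idx F) : Matrix chevG2.Idx chevG2.Idx F) (S⁻¹).1}
      one_mem' := by
        simp only [Set.mem_ofPred_eq, inv_one, map_one, Units.val_one, Matrix.SpecialLinearGroup.coe_one]
        exact ⟨Inv.one, Inv.one⟩
      mul_mem' := by
        intro a b ha hb
        refine ⟨?_, ?_⟩
        · rw [map_mul, Units.val_mul, Matrix.SpecialLinearGroup.coe_mul]; exact ha.1.mul hb.1
        · rw [_root_.mul_inv_rev, map_mul, Units.val_mul, Matrix.SpecialLinearGroup.coe_mul]; exact hb.2.mul ha.2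
      inv_mem' := by
        intro a ha
        exact ⟨ha.2, by rw [inv_inv]; exact ha.1⟩ }
  have hU : ∀ t : F, (slU t)⁻¹ = slU (-t) := fun t => inv_eq_of_mul_eq_one_right (Subtype.ext (by
    simp [Matrix.SpecialLinearGroup.coe_mul, Matrix.one_fin_two]))
  have hL : ∀ t : F, (slL t)⁻¹ = slL (-t) := fun t => inv_eq_of_mul_eq_one_right (Subtype.ext (by
    simp [Matrix.SpecialLinearGroup.coe_mul, Matrix.one_fin_two]))
  have h : slPart g ∈ M := sl_induction (M := M)
    (fun t => ⟨by rw [phi_U]; exact Inv.X6 t, by rw [hU, phi_U]; exact Inv.X6 (-t)⟩)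
    (fun t => ⟨by rw [phi_L]; exact Inv.X5 t, by rw [hL, phi_L]; exact Inv.X5 (-t)⟩) _
  have e := h.1.mul (Inv.Tdd (Matrix.GeneralLinearGroup.det g))
  have eg : (slPart g).1 * !![1, 0; 0, (Matrix.GeneralLinearGroup.det g : F)] = g.1 := by
    have h1 : g.1.det ≠ 0 := Matrix.GeneralLinearGroup.det_ne_zero g
    show g.1 * !![1, 0; 0, g.1.det⁻¹] * _ = _
    rw [mul_assoc]
    simp [h1, ← Matrix.one_fin_two]
  rw [eg] at e
  exact e

/-- The coefficient at the top left of the sum over the first coordinate functional. -/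
theorem peel {k : Fin 12} (hk : k ∈ Pos) (t : F) (g : GL chevG2.Idx F) (c : chevG2.Idx) :
    ((X k t * g : GL chevG2.Idx F) : Matrix chevG2.Idx chevG2.Idx F) (Sum.inl i0) c =
      (g : Matrix chevG2.Idx chevG2.Idx F) (Sum.inl i0) c +
        (co chevG2 (rt k) i0 : F) * t * (g : Matrix chevG2.Idx chevG2.Idx F) (ix k.rev) c := by
  have key : ∀ k : Fin 12, k ∈ Pos → ∀ x : chevG2.Idx, ∀ j : Fin 3, E chevG2 (j.val + 1) (rt k) (Sum.inl i0) x =
      if x = ix k.rev ∧ j = 0 then co chevG2 (rt k) i0 else 0 := by decide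
  rw [Units.val_mul, Matrix.mul_apply]
  have e : ∀ x, ((X k t : GL chevG2.Idx F) : Matrix chevG2.Idx chevG2.Idx F) (Sum.inl i0) x =
      (if x = Sum.inl i0 then 1 else 0) + (if x = ix k.rev then (co chevG2 (rt k) i0 : F) * t else 0) := by
    intro x
    have k0 := key k hk x 0; have k1 := key k hk x 1; have k2 := key k hk x 2
    simp only [Fin.val_zero, Fin.val_one, Fin.val_two, Nat.zero_add, Nat.reduceAdd] at k0 k1 k2
    rw [X_entry, k0, k1, k2]
    simp [eq_comm]
    split_ifs <;> simp [mul_comm]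
  simp only [e, add_mul, Finset.sum_add_distrib, ite_mul, zero_mul, one_mul, Finset.sum_ite_eq', Finset.mem_univ,
    if_true]

theorem U_Qb_word {u : GL chevG2.Idx F} (hu : u ∈ U Qb F) :
    ∃ t : Rt chevG2 → F, u = X 7 (t (rt 7)) * (X 8 (t (rt 8)) * (X 9 (t (rt 9)) * (X 10 (t (rt 10)) *
      X 11 (t (rt 11))))) := by
  have hset : {r : Rt chevG2 | r ∈ [rt 7, rt 8, rt 9, rt 10, rt 11]} = rt '' (↑Qb : Set (Fin 12)) := by
    ext r
    simp [Qb]
    tauto
  have h7 : ∀ r ∈ [rt 7, rt 8, rt 9, rt 10, rt 11], r ∈ C.Pos := by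
    intro r hr
    obtain ⟨n, rfl⟩ := rt_surj r
    have key : ∀ n : Fin 12, rt n ∈ [rt 7, rt 8, rt 9, rt 10, rt 11] → 12 ≤ 2 * n.val := by decide
    exact key n hr
  have hcl : ∀ r ∈ [rt 7, rt 8, rt 9, rt 10, rt 11], ∀ s ∈ [rt 7, rt 8, rt 9, rt 10, rt 11],
      ∀ (q : Rt chevG2) (i j : ℕ), 1 ≤ i → 1 ≤ j →
      C.v q = (i : ℤ) • C.v r + (j : ℤ) • C.v s → q ∈ [rt 7, rt 8, rt 9, rt 10, rt 11] := by
    intro r hr s hs q i j hi hj hv
    have hq : q ∈ C.Pos := H.pos_closed (h7 r hr) (h7 s hs) hj hv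
    have hne : q ≠ C.p i1 := by
      intro e
      have h1 := congrFun hv i0
      have ha : ∀ r ∈ [rt 7, rt 8, rt 9, rt 10, rt 11], 1 ≤ Data.G2.fast.v r.val 0 := by decide
      have hr' : (1 : ℤ) ≤ C.v r i0 := ha r hr
      have hs' : (1 : ℤ) ≤ C.v s i0 := ha s hs
      simp only [Pi.add_apply, Pi.smul_apply, smul_eq_mul] at h1
      rw [e, C.v_p, Pi.single_eq_of_ne (by decide)] at h1
      nlinarith
    rw [p_i1] at hne
    obtain ⟨n, rfl⟩ := rt_surj q
    have : ∀ n : Fin 12, 12 ≤ 2 * n.val → rt n ≠ rt 6 → rt n ∈ [rt 7, rt 8, rt 9, rt 10, rt 11] := by decide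
    exact this n hq hne
  obtain ⟨t, ht⟩ := H.exists_word (R := F) (L := [rt 7, rt 8, rt 9, rt 10, rt 11]) (by decide) h7 hcl
    (g := u) (by rw [hset]; exact hu)
  exact ⟨t, by rw [ht]; simp [Core.wordX, X]⟩

/-- A functional fixed by a matrix without the eigenvalue c vanishes. -/
theorem fixed_functional {g : Matrix (Fin 2) (Fin 2) F} {c : F} (hc : c ≠ 0)
    (hg : ∀ r : F, r * r - g.trace * r + g.det ≠ 0) {f : Fin 2 → F}
    (e : ∀ j, f j = ∑ i, f i * (c • flip2 g) i j) : f 0 = 0 ∧ f 1 = 0 := by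
  have e0 := e 0
  have e1 := e 1
  simp [Fin.sum_univ_two, flip2] at e0 e1
  have h := hg c⁻¹
  rw [Matrix.trace_fin_two, Matrix.det_fin_two] at h
  have hD : (c * g 0 0 - 1) * (c * g 1 1 - 1) - c * g 0 1 * (c * g 1 0) ≠ 0 := by
    intro e; apply h; field_simp; linear_combination e
  constructor
  · refine (mul_eq_zero.1 (?_ : f 0 * _ = 0)).resolve_right hD
    linear_combination -(c * g 1 1 - 1) * e0 - c * g 1 0 * e1
  · refine (mul_eq_zero.1 (?_ : f 1 * _ = 0)).resolve_right hD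
    linear_combination -(c * g 0 0 - 1) * e1 - c * g 0 1 * e0

/-- No fixed points on the radical. -/
theorem eq_one_of_commute_Qb {g : GL (Fin 2) F} (hg : ∀ r : F, r * r - g.1.trace * r + g.1.det ≠ 0)
    (hd : g.1.det ≠ 1) {u : GL chevG2.Idx F} (hu : u ∈ U Qb F) (hc : Commute (psi g) u) : u = 1 := by
  have hI := inv_psi g
  obtain ⟨t, rfl⟩ := U_Qb_word hu
  set t7 := t (rt 7); set t8 := t (rt 8); set t9 := t (rt 9); set t10 := t (rt 10); set t11 := t (rt 11)
  have hdet : g.1.det ≠ 0 := Matrix.GeneralLinearGroup.det_ne_zero g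
  -- the equation at a column
  have heq : ∀ (v : GL chevG2.Idx F), Commute (psi g) v → ∀ (k : Fin 2 → chevG2.Idx)
      (R : Matrix (Fin 2) (Fin 2) F), Cols ((psi g : GL chevG2.Idx F) : Matrix chevG2.Idx chevG2.Idx F) k R →
      ∀ j, (v : Matrix chevG2.Idx chevG2.Idx F) (Sum.inl i0) (k j) =
        ∑ i, (v : Matrix chevG2.Idx chevG2.Idx F) (Sum.inl i0) (k i) * R i j := by
    intro v hv k R hk j
    have e := congrArg (fun M : GL chevG2.Idx F => (M : Matrix chevG2.Idx chevG2.Idx F) (Sum.inl i0) (k j)) hv.eq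
    simp only [Units.val_mul, Matrix.mul_apply, hI.row, ite_mul, one_mul, zero_mul, Finset.sum_ite_eq',
      Finset.mem_univ, if_true, hk j, Finset.mul_sum, mul_ite, mul_zero] at e
    rw [Finset.sum_comm] at e
    simpa [Finset.sum_ite_eq'] using e
  have ab : ∀ (S : Finset (Fin 12)) (c : ℤ) (hc : 0 ≤ c), (∀ n ∈ S, c < 1 * C.ht (rt n)) →
      ∀ v ∈ U S F, Above (fun a => 1 * C.fht a) c ((v : Matrix chevG2.Idx chevG2.Idx F) - 1) :=
    fun S c hc h v hv => (C.US_le_upperU F hc (σ := 1) (S := rt '' ↑S)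
      (by rintro r ⟨n, hn, rfl⟩; exact h n (Finset.mem_coe.1 hn)) hv).1
  have htv : ∀ n : Fin 12, C.ht (rt n) = Data.G2.fast.v n.val 0 * 16 + Data.G2.fast.v n.val 1 := by
    intro n
    show ∑ m : Fin 2, C.v (rt n) m * 16 ^ (2 - 1 - (m : ℕ)) = _
    rw [Fin.sum_univ_two]
    simp
    rfl
  have zero : ∀ (S : Finset (Fin 12)) (c : ℤ) (hc : 0 ≤ c), (∀ n ∈ S, c < 1 * C.ht (rt n)) →
      ∀ v ∈ U S F, ∀ a b : chevG2.Idx, a ≠ b → C.fht a ≤ C.fht b + c →
        (v : Matrix chevG2.Idx chevG2.Idx F) a b = 0 := by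
    intro S c hc h v hv a b hab hle
    by_contra hne
    have : 1 * C.fht b + c < 1 * C.fht a := ab S c hc h v hv a b (by simpa [Matrix.one_apply, hab] using hne)
    omega
  have m : ∀ (S : Finset (Fin 12)) (n : Fin 12), n ∈ S → ∀ s : F, X n s ∈ U S F := fun S n h s => X_mem_U h s
  set w11 := X 11 t11
  set w10 := X 10 t10 * w11
  set w9 := X 9 t9 * w10
  set w8 := X 8 t8 * w9
  -- the coordinates of a and a+b
  have hA : t7 = 0 ∧ t8 = 0 := by
    have e3 : ∀ n : Fin 12, C.fht (ix n) = C.ht (rt n) := fun n => C.fht_inr _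
    have h8m : w8 ∈ U {8, 9, 10, 11} F := mul_mem (m _ 8 (by decide) _) (mul_mem (m _ 9 (by decide) _)
      (mul_mem (m _ 10 (by decide) _) (m _ 11 (by decide) _)))
    have h9m : w9 ∈ U {9, 10, 11} F := mul_mem (m _ 9 (by decide) _) (mul_mem (m _ 10 (by decide) _)
      (m _ 11 (by decide) _))
    have z8 := zero {8, 9, 10, 11} 16 (by norm_num) (by intro n hn; rw [one_mul, htv]; revert n; decide) w8 h8m
    have z9 := zero {9, 10, 11} 17 (by norm_num) (by intro n hn; rw [one_mul, htv]; revert n; decide) w9 h9m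
    have diag : ∀ (S : Finset (Fin 12)), (∀ n ∈ S, (0 : ℤ) < 1 * C.ht (rt n)) → ∀ v ∈ U S F, ∀ a : chevG2.Idx,
        (v : Matrix chevG2.Idx chevG2.Idx F) a a = 1 := by
      intro S h v hv a
      by_contra hne
      have : 1 * C.fht a + 0 < 1 * C.fht a := ab S 0 le_rfl h v hv a a (by simp [sub_eq_zero, hne])
      omega
    have c4 : ((X 7 t7 * w8 : GL chevG2.Idx F) : Matrix chevG2.Idx chevG2.Idx F) (Sum.inl i0) (ix 4) = t7 := by
      rw [peel (by decide), z8 (Sum.inl i0) (ix 4) (by decide) (by rw [C.fht_inl, e3, htv]; decide),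
        show ix (Fin.rev 7) = ix 4 from rfl,
        diag {8, 9, 10, 11} (by intro n hn; rw [one_mul, htv]; revert n; decide) w8 h8m (ix 4),
        show co chevG2 (rt 7) i0 = 1 by decide]
      simp
    have c3 : ((X 7 t7 * w8 : GL chevG2.Idx F) : Matrix chevG2.Idx chevG2.Idx F) (Sum.inl i0) (ix 3) = t8 := by
      rw [peel (by decide), show ix (Fin.rev 7) = ix 4 from rfl,
        z8 (ix 4) (ix 3) (by decide) (by rw [e3, e3, htv, htv]; decide), mul_zero, add_zero]
      rw [show w8 = X 8 t8 * w9 from rfl, peel (by decide),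
        z9 (Sum.inl i0) (ix 3) (by decide) (by rw [C.fht_inl, e3, htv]; decide),
        show ix (Fin.rev 8) = ix 3 from rfl,
        diag {9, 10, 11} (by intro n hn; rw [one_mul, htv]; revert n; decide) w9 h9m (ix 3),
        show co chevG2 (rt 8) i0 = 1 by decide]
      simp
    have := fixed_functional (inv_ne_zero hdet) hg
      (f := fun i => ((X 7 t7 * w8 : GL chevG2.Idx F) : Matrix chevG2.Idx chevG2.Idx F) (Sum.inl i0) (![ix 4, ix 3] i))
      (heq _ hc _ _ hI.colA)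
    simp only [Matrix.cons_val_zero, Matrix.cons_val_one, c4, c3] at this
    exact this
  obtain ⟨h7, h8⟩ := hA
  simp only [w8, h7, h8, X_zero, one_mul] at hc ⊢
  -- the coordinates of 3a+b and 3a+2b
  have hB : t10 = 0 ∧ t11 = 0 := by
    have e3 : ∀ n : Fin 12, C.fht (ix n) = C.ht (rt n) := fun n => C.fht_inr _
    have h10m : w10 ∈ U {10, 11} F := mul_mem (m _ 10 (by decide) _) (m _ 11 (by decide) _)
    have z10 := zero {10, 11} 48 (by norm_num) (by intro n hn; rw [one_mul, htv]; revert n; decide) w10 h10m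
    have z11 := zero {11} 49 (by norm_num) (by intro n hn; rw [one_mul, htv]; revert n; decide) w11
      (m _ 11 (by decide) _)
    have diag : ∀ (S : Finset (Fin 12)), (∀ n ∈ S, (0 : ℤ) < 1 * C.ht (rt n)) → ∀ v ∈ U S F, ∀ a : chevG2.Idx,
        (v : Matrix chevG2.Idx chevG2.Idx F) a a = 1 := by
      intro S h v hv a
      by_contra hne
      have : 1 * C.fht a + 0 < 1 * C.fht a := ab S 0 le_rfl h v hv a a (by simp [sub_eq_zero, hne])
      omega
    have p1 : ((w10 : GL chevG2.Idx F) : Matrix chevG2.Idx chevG2.Idx F) (Sum.inl i0) (ix 1) = t10 := by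
      rw [show w10 = X 10 t10 * w11 from rfl, peel (by decide),
        z11 (Sum.inl i0) (ix 1) (by decide) (by rw [C.fht_inl, e3, htv]; decide),
        show ix (Fin.rev 10) = ix 1 from rfl,
        diag {11} (by intro n hn; rw [one_mul, htv]; revert n; decide) w11 (m _ 11 (by decide) _) (ix 1),
        show co chevG2 (rt 10) i0 = 1 by decide]
      simp
    have p0 : ((w10 : GL chevG2.Idx F) : Matrix chevG2.Idx chevG2.Idx F) (Sum.inl i0) (ix 0) = t11 := by
      rw [show w10 = X 10 t10 * w11 from rfl, peel (by decide), show ix (Fin.rev 10) = ix 1 from rfl,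
        z11 (ix 1) (ix 0) (by decide) (by rw [e3, e3, htv, htv]; decide), mul_zero, add_zero,
        show w11 = X 11 t11 * 1 from (mul_one _).symm, peel (by decide),
        show ix (Fin.rev 11) = ix 0 from rfl, show co chevG2 (rt 11) i0 = 1 by decide]
      simp [show (Sum.inl i0 : chevG2.Idx) ≠ ix 0 by decide]
    have c1 : ((w9 : GL chevG2.Idx F) : Matrix chevG2.Idx chevG2.Idx F) (Sum.inl i0) (ix 1) = t10 := by
      rw [show w9 = X 9 t9 * w10 from rfl, peel (by decide), p1, show ix (Fin.rev 9) = ix 2 from rfl,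
        z10 (ix 2) (ix 1) (by decide) (by rw [e3, e3, htv, htv]; decide), mul_zero, add_zero]
    have c0 : ((w9 : GL chevG2.Idx F) : Matrix chevG2.Idx chevG2.Idx F) (Sum.inl i0) (ix 0) = t11 := by
      rw [show w9 = X 9 t9 * w10 from rfl, peel (by decide), p0, show ix (Fin.rev 9) = ix 2 from rfl,
        z10 (ix 2) (ix 0) (by decide) (by rw [e3, e3, htv, htv]; decide), mul_zero, add_zero]
    have := fixed_functional (mul_ne_zero (inv_ne_zero hdet) (inv_ne_zero hdet)) hg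
      (f := fun i => ((w9 : GL chevG2.Idx F) : Matrix chevG2.Idx chevG2.Idx F) (Sum.inl i0) (![ix 1, ix 0] i))
      (heq _ hc _ _ hI.colB)
    simp only [Matrix.cons_val_zero, Matrix.cons_val_one, c1, c0] at this
    exact this
  obtain ⟨h10, h11⟩ := hB
  simp only [w9, w10, w11, h10, h11, X_zero, mul_one] at hc ⊢
  -- the coordinate of 2a+b
  have key : ∀ c : chevG2.Idx,
      E chevG2 1 (rt 9) c (ix 2) = (if c = Sum.inl i0 then 2 else 0) + (if c = Sum.inl i1 then 3 else 0) ∧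
      E chevG2 2 (rt 9) c (ix 2) = (if c = ix 9 then -1 else 0) ∧ E chevG2 3 (rt 9) c (ix 2) = 0 := by
    decide +kernel
  have hcol : ∀ c, ((X 9 t9 : GL chevG2.Idx F) : Matrix chevG2.Idx chevG2.Idx F) c (ix 2) =
      (if c = ix 2 then 1 else 0) + ((if c = Sum.inl i0 then t9 * 2 else 0) +
        (if c = Sum.inl i1 then t9 * 3 else 0) + (if c = ix 9 then -t9 ^ 2 else 0)) := by
    intro c
    obtain ⟨k0, k1, k2⟩ := key c
    rw [X_entry, k0, k1, k2]
    simp [mul_add]
  suffices h9 : t9 = 0 by rw [h9, X_zero]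
  have coords : ∀ i, ((if Sum.inl i = (Sum.inl i0 : chevG2.Idx) then (2 : F) else 0) +
      if Sum.inl i = (Sum.inl i1 : chevG2.Idx) then 3 else 0) * t9 * (1 - (g.1.det)⁻¹) = 0 := by
    intro i
    have e := congrArg (fun M : GL chevG2.Idx F => (M : Matrix chevG2.Idx chevG2.Idx F) (Sum.inl i) (ix 2)) hc.eq
    simp only [Units.val_mul, Matrix.mul_apply, hI.col2, hcol, mul_add, mul_ite, mul_zero, mul_one,
      Finset.sum_add_distrib, Finset.sum_ite_eq', Finset.mem_univ, if_true, if_neg (inl_ne_ix i 2),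
      if_neg (inl_ne_ix i 9)] at e
    rw [hI.col9, if_neg (inl_ne_ix i 9)] at e
    have hz := hI.zvec (Sum.inl i)
    have h01 : ∀ (i : Fin chevG2.rank) (a : F),
        ((if Sum.inl i = (Sum.inl i0 : chevG2.Idx) then t9 * a else 0) : F) =
          t9 * if Sum.inl i = (Sum.inl i0 : chevG2.Idx) then a else 0 := fun i a => by rw [mul_ite, mul_zero]
    have h11 : ∀ (i : Fin chevG2.rank) (a : F),
        ((if Sum.inl i = (Sum.inl i1 : chevG2.Idx) then t9 * a else 0) : F) =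
          t9 * if Sum.inl i = (Sum.inl i1 : chevG2.Idx) then a else 0 := fun i a => by rw [mul_ite, mul_zero]
    simp only [h01, h11] at e
    linear_combination e - t9 * hz
  have h1 : (1 : F) - (g.1.det)⁻¹ ≠ 0 := fun e => hd (inv_eq_one.1 (sub_eq_zero.1 e).symm)
  have e0 := (mul_eq_zero.1 (coords i0)).resolve_right h1
  have e1 := (mul_eq_zero.1 (coords i1)).resolve_right h1
  rw [if_pos rfl, if_neg (by decide), add_zero] at e0
  rw [if_neg (by decide), if_pos rfl, zero_add] at e1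
  linear_combination e1 - e0

end Cfsg.Agent.Lib.G2Gauss
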