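import Cfsg.Agent.Lib.G2Gauss.Cases
import Cfsg.Agent.Lib.G2Gauss.Radical

/-!
Every element of G₂(q), q ≥ 3, is a product of two conjugates of an elliptic element of the Levi subgroup.
-/

set_option autoImplicit false
set_option maxRecDepth 100000
set_option linter.unusedSectionVars false

namespace Cfsg.Agent.Lib.G2Gauss

open Cfsg.Lie Cfsg.Agent.Lib.ChevStructure
open Cfsg.Agent.Lib.PSp4Class (NonScalar nonScalar_of_irred exists_similar exists_product)
open scoped MatrixGroups Matrix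

variable {F : Type*} [Field F]

/-! ### The reflection in 2a+b exchanges the radicals -/

/-- The reflection in 2a+b on the roots. -/
noncomputable def s9 : Equiv.Perm (Rt chevG2) :=
  C.pprod [i0, i1, i0, i1, i0]

theorem rt9_eq : C.pprod [i0, i1] (C.p i0) = rt 9 := by rw [p_i0]; decide +kernel

theorem acts_nn9 : C.Acts (nn 9 : GL chevG2.Idx F) s9 := by
  obtain ⟨u, hu⟩ := C.wprod_nR F [i0, i1] (C.p i0) 1
  rw [rt9_eq] at hu
  have hP : C.nR F (C.p i0) 1 = C.wprod F [i0] := by simp [Core.wprod, Core.P]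
  have hh : C.nR F (rt 9) u = Core.hD F (rt 9) u * nn 9 := by
    have := congrArg Prod.snd (C.gN_eq F (rt 9) u)
    rwa [Prod.snd_mul, C.gH_snd] at this
  rw [hP, hh] at hu
  obtain ⟨c, hc⟩ : ∃ c, Core.hD F (rt 9) u = C.HT F c := ⟨_, C.hD_eq_HT F _ _⟩
  rw [hc] at hu
  have e : (nn 9 : GL chevG2.Idx F) =
      (C.HT F c)⁻¹ * (C.wprod F [i0, i1] * C.wprod F [i0] * (C.wprod F [i0, i1])⁻¹) := by
    rw [hu, inv_mul_cancel_left]
  rw [e]
  have h := C.acts_mul F (C.acts_inv F (C.acts_HT F c))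
    (C.acts_mul F (C.acts_mul F (C.acts_wprod F [i0, i1]) (C.acts_wprod F [i0]))
      (C.acts_inv F (C.acts_wprod F [i0, i1])))
  have es : (1 : Equiv.Perm (Rt chevG2))⁻¹ * (C.pprod [i0, i1] * C.pprod [i0] * (C.pprod [i0, i1])⁻¹) = s9 := by
    have e2 : (C.pprod [i0, i1])⁻¹ = C.pprod [i1, i0] := by
      refine inv_eq_of_mul_eq_one_right ?_
      simp only [C.pprod_cons, C.pprod_nil, mul_one]
      rw [mul_assoc, ← mul_assoc (C.sref i1), C.sref_mul_self, one_mul, C.sref_mul_self]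
    rw [inv_one, one_mul, e2, ← C.pprod_append, ← C.pprod_append]
    rfl
  rwa [es] at h

theorem s9_Qn : ∀ n ∈ Qn, ∃ m ∈ Qb, s9 (rt n) = rt m := by
  unfold s9
  decide +kernel

theorem nn9_conj_Qn {g : GL chevG2.Idx F} (hg : g ∈ U Qn F) : nn 9 * g * (nn 9)⁻¹ ∈ U Qb F := by
  refine C.conj_mem_US F acts_nn9 ?_ hg
  rintro r ⟨n, hn, rfl⟩
  obtain ⟨m, hm, e⟩ := s9_Qn n (Finset.mem_coe.1 hn)
  exact ⟨m, Finset.mem_coe.2 hm, e.symm⟩

/-! ### Two by two matrices -/

/-- No eigenvalue in F. -/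
def Irred (g : GL (Fin 2) F) : Prop := ∀ r : F, r * r - g.1.trace * r + g.1.det ≠ 0

theorem irred_scaled {g h : GL (Fin 2) F} (hg : Irred g) (ht : h.1.trace = (g.1.det)⁻¹ * g.1.trace)
    (hd : h.1.det = (g.1.det)⁻¹) : Irred h := by
  intro r e
  rw [ht, hd] at e
  have h0 : g.1.det ≠ 0 := Matrix.GeneralLinearGroup.det_ne_zero g
  rcases eq_or_ne r 0 with rfl | hr
  · simp [h0] at e
  refine hg r⁻¹ ?_
  field_simp at e ⊢
  linear_combination e

theorem trace_det_scale (g : GL (Fin 2) F) :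
    (g * dg (Matrix.GeneralLinearGroup.det g)⁻¹ (Matrix.GeneralLinearGroup.det g)⁻¹).1.trace =
      (g.1.det)⁻¹ * g.1.trace ∧
    (g * dg (Matrix.GeneralLinearGroup.det g)⁻¹ (Matrix.GeneralLinearGroup.det g)⁻¹).1.det = (g.1.det)⁻¹ := by
  have h0 : g.1.det ≠ 0 := Matrix.GeneralLinearGroup.det_ne_zero g
  constructor
  · simp [dg, Matrix.trace_fin_two, Matrix.mul_apply, Fin.sum_univ_two]
    ring
  · rw [Units.val_mul, Matrix.det_mul]
    simp [dg, Matrix.det_fin_two_of, h0]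

theorem trace_det_inv (g : GL (Fin 2) F) :
    (g⁻¹).1.trace = (g.1.det)⁻¹ * g.1.trace ∧ (g⁻¹).1.det = (g.1.det)⁻¹ := by
  rw [Matrix.coe_units_inv, Matrix.inv_def, Ring.inverse_eq_inv', Matrix.adjugate_fin_two]
  have h0 : g.1.det ≠ 0 := Matrix.GeneralLinearGroup.det_ne_zero g
  constructor
  · simp [Matrix.trace_fin_two, add_comm, mul_add]
  · rw [Matrix.det_smul, Matrix.det_fin_two_of, Fintype.card_fin]
    have : g.1 1 1 * g.1 0 0 - -g.1 0 1 * -g.1 1 0 = g.1.det := by rw [Matrix.det_fin_two]; ring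
    rw [this]
    field_simp

theorem trace_det_conj (S g : GL (Fin 2) F) :
    (S * g * S⁻¹).1.trace = g.1.trace ∧ (S * g * S⁻¹).1.det = g.1.det := by
  constructor
  · rw [Units.val_mul, Units.val_mul, Matrix.trace_mul_cycle, Units.inv_mul, one_mul]
  · rw [Units.val_mul, Units.val_mul, Matrix.det_mul, Matrix.det_mul, mul_right_comm, ← Matrix.det_mul,
      Units.mul_inv, Matrix.det_one, one_mul]

theorem Irred.conj {g : GL (Fin 2) F} (hg : Irred g) (S : GL (Fin 2) F) : Irred (S * g * S⁻¹) := by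
  intro r
  rw [(trace_det_conj S g).1, (trace_det_conj S g).2]
  exact hg r

/-! ### Fixed points -/

theorem eq_one_of_commute_Qn {g : GL (Fin 2) F} (hg : Irred g) (hd : g.1.det ≠ 1) {u : GL chevG2.Idx F}
    (hu : u ∈ U Qn F) (hc : Commute (psi g) u) : u = 1 := by
  obtain ⟨e1, e2⟩ := trace_det_scale g
  set g' := g * dg (Matrix.GeneralLinearGroup.det g)⁻¹ (Matrix.GeneralLinearGroup.det g)⁻¹ with hg'
  have hn : nn 9 * psi g * (nn 9)⁻¹ = psi g' := by rw [nn9_psi, ← hg', mul_inv_cancel_right]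
  have h := eq_one_of_commute_Qb (g := g') (irred_scaled hg e1 e2)
    (by rw [e2]; exact fun h => hd (inv_eq_one.1 h)) (nn9_conj_Qn hu)
    (by
      rw [← hn]
      exact (Commute.conj_iff (nn 9)).2 hc)
  exact conj_eq_one_iff.1 h

theorem exists_conj_of_free {Γ : Type*} [Group Γ] [Finite Γ] (V : Subgroup Γ) {x : Γ}
    (hn : ∀ p ∈ V, x * p * x⁻¹ ∈ V) (hf : ∀ p ∈ V, Commute x p → p = 1) {v : Γ} (hv : v ∈ V) :
    ∃ p ∈ V, v * x = p * x * p⁻¹ := by
  let f : V → V := fun p => ⟨p.1 * (x * p.1⁻¹ * x⁻¹), mul_mem p.2 (hn _ (inv_mem p.2))⟩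
  have hinj : Function.Injective f := by
    intro a b e
    have e' : a.1 * (x * a.1⁻¹ * x⁻¹) = b.1 * (x * b.1⁻¹ * x⁻¹) := congrArg Subtype.val e
    have h : Commute x (b.1⁻¹ * a.1) := by
      show x * (b.1⁻¹ * a.1) = b.1⁻¹ * a.1 * x
      have : b.1⁻¹ * a.1 * x = x * b.1⁻¹ * a.1 := by
        calc b.1⁻¹ * a.1 * x = b.1⁻¹ * (a.1 * (x * a.1⁻¹ * x⁻¹)) * x * a.1 := by group
          _ = _ := by rw [e']; group
      rw [this, mul_assoc]
    exact Subtype.ext (inv_mul_eq_one.1 (hf _ (mul_mem (inv_mem b.2) a.2) h)).symm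
  obtain ⟨p, hp⟩ := Finite.injective_iff_surjective.1 hinj ⟨v, hv⟩
  refine ⟨p.1, p.2, ?_⟩
  have e : p.1 * (x * p.1⁻¹ * x⁻¹) = v := congrArg Subtype.val hp
  rw [← e]; group

/-- Every element is a product of two conjugates of ψ(A). -/
theorem two_conj [Fintype F] (h3 : 3 ≤ Fintype.card F) {A : GL (Fin 2) F} (hA : Irred A)
    (ha : A.1.trace ≠ 0) (hν : A.1.det ≠ 1) {g : GL chevG2.Idx F} (hg : g ∈ chevG2.group F) :
    ∃ P ∈ chevG2.group F, ∃ Q ∈ chevG2.group F, g = (P * psi A * P⁻¹) * (Q * psi A * Q⁻¹) := by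
  classical
  haveI : Finite (Matrix chevG2.Idx chevG2.Idx F) := inferInstanceAs (Finite (chevG2.Idx → chevG2.Idx → F))
  haveI : Finite (GL chevG2.Idx F) :=
    Finite.of_injective (fun g : GL chevG2.Idx F => g.1) (fun g h e => Units.ext e)
  obtain ⟨k, hk, v, hv, q, hq, M, hM, e⟩ := good_all h3 hg
  obtain ⟨S, R, hSR⟩ := exists_product (A := A) hA ha (h := Matrix.SpecialLinearGroup.toGL M) M.2
    (hM.imp (fun h => by rw [h]; rfl) id)
  -- the inverse class
  have hAi : Irred A⁻¹ := irred_scaled hA (trace_det_inv A).1 (trace_det_inv A).2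
  obtain ⟨e1, e2⟩ := trace_det_scale A
  set A' := A * dg (Matrix.GeneralLinearGroup.det A)⁻¹ (Matrix.GeneralLinearGroup.det A)⁻¹ with hA'
  have hAi' : Irred A' := irred_scaled hA e1 e2
  obtain ⟨W, hW⟩ := exists_similar (nonScalar_of_irred hAi) (nonScalar_of_irred hAi')
    ((trace_det_inv A).1.trans e1.symm) ((trace_det_inv A).2.trans e2.symm)
  have hn9 : psi A' = nn 9 * psi A * (nn 9)⁻¹ := by rw [nn9_psi, ← hA', mul_inv_cancel_right]
  -- the two factors
  have hRd : (R * A⁻¹ * R⁻¹).1.det ≠ 1 := by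
    rw [(trace_det_conj R A⁻¹).2, (trace_det_inv A).2]
    exact fun h => hν (inv_eq_one.1 h)
  obtain ⟨p1, hp1, h1⟩ := exists_conj_of_free (U Qn F) (x := psi (S * A * S⁻¹))
    (fun p hp => psi_conj_U Qn (by decide) (by decide) _ hp)
    (fun p hp hc => eq_one_of_commute_Qn (hA.conj S) (by rw [(trace_det_conj S A).2]; exact hν) hp hc) hv
  obtain ⟨p2, hp2, h2⟩ := exists_conj_of_free (U Qb F) (x := psi (R * A⁻¹ * R⁻¹))
    (fun p hp => psi_conj_U Qb (by decide) (by decide) _ hp)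
    (fun p hp hc => eq_one_of_commute_Qb (hAi.conj R) hRd hp hc)
    (psi_conj_U Qb (by decide) (by decide) (R * A⁻¹ * R⁻¹) hq)
  rw [inv_mul_cancel_right] at h2
  refine ⟨k⁻¹ * p1 * psi S, mul_mem (mul_mem (inv_mem hk) (U_le_group _ hp1)) (psi_mem S),
    k⁻¹ * p2 * psi (R * W) * nn 9,
    mul_mem (mul_mem (mul_mem (inv_mem hk) (U_le_group _ hp2)) (psi_mem _)) (nn_mem 9), ?_⟩
  have hX1 : psi (S * A * S⁻¹) = psi S * psi A * (psi S)⁻¹ := by simp
  have hX2 : psi (R * A⁻¹ * R⁻¹) = psi (R * W) * nn 9 * psi A * (psi (R * W) * nn 9)⁻¹ := by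
    rw [hW, show R * (W * A' * W⁻¹) * R⁻¹ = R * W * A' * (R * W)⁻¹ by group, map_mul, map_mul, map_inv, hn9]
    group
  calc g = k⁻¹ * (v * phi 6 M * q) * k := by rw [← e]; group
    _ = k⁻¹ * ((v * psi (S * A * S⁻¹)) * (psi (R * A⁻¹ * R⁻¹) * q)) * k := by
        rw [← psi_of_sl, hSR, map_mul]; group
    _ = _ := by rw [h1, h2, hX1, hX2]; group

/-- An elliptic element has order prime to the characteristic. -/
theorem not_dvd_orderOf [Finite F] (p : ℕ) [Fact p.Prime] [CharP F p] {A : GL (Fin 2) F} (hA : Irred A) :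
    ¬ p ∣ orderOf A := by
  intro hpA
  haveI : Finite (Matrix (Fin 2) (Fin 2) F) := inferInstanceAs (Finite (Fin 2 → Fin 2 → F))
  haveI : Finite (GL (Fin 2) F) := Finite.of_injective (fun g : GL (Fin 2) F => g.1) (fun g h e => Units.ext e)
  set k := orderOf A / p with hk
  have hkp : k * p = orderOf A := Nat.div_mul_cancel hpA
  set N := (A ^ k).1 - 1 with hN
  have hNp : N ^ p = 0 := by
    haveI : CharP (Matrix (Fin 2) (Fin 2) F) p :=
      charP_of_injective_algebraMap (algebraMap F (Matrix (Fin 2) (Fin 2) F)).injective p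
    rw [hN, sub_pow_char_of_commute p (Commute.one_right _), one_pow, sub_eq_zero,
      ← Units.val_pow_eq_pow_val, ← pow_mul, hkp, pow_orderOf_eq_one, Units.val_one]
  have hdet0 : N.det = 0 := eq_zero_of_pow_eq_zero (n := p) (by
    rw [← Matrix.det_pow, hNp, Matrix.det_zero])
  have hcomm : N * A.1 = A.1 * N := by
    rw [hN, sub_mul, mul_sub, one_mul, mul_one, ← Units.val_mul, ← Units.val_mul, ← pow_succ, ← pow_succ']
  have hns := nonScalar_of_irred hA
  obtain ⟨T, hT0, hT⟩ := Cfsg.Agent.Lib.PSp4Class.exists_companion hns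
  obtain ⟨s, hs⟩ := Cfsg.Agent.Lib.PSp4Class.exists_GL hT0
  rw [← hs] at hT
  set a := A.1.trace
  set ν := A.1.det
  set N' := (s⁻¹).1 * N * s.1 with hN'
  have hN'd : N'.det = 0 := by rw [hN', Matrix.det_mul, Matrix.det_mul, hdet0, mul_zero, zero_mul]
  have hcA : A.1 = s.1 * Cfsg.Agent.Lib.PSp4Class.cmp a ν * (s⁻¹).1 := by
    rw [← hT, mul_assoc, Units.mul_inv, mul_one]
  have hc' : N' * Cfsg.Agent.Lib.PSp4Class.cmp a ν = Cfsg.Agent.Lib.PSp4Class.cmp a ν * N' := by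
    have h1 : Cfsg.Agent.Lib.PSp4Class.cmp a ν = (s⁻¹).1 * A.1 * s.1 := by
      rw [mul_assoc, hT, ← mul_assoc, Units.inv_mul, one_mul]
    rw [h1, hN']
    simp only [mul_assoc]
    rw [← mul_assoc s.1 (s⁻¹).1, Units.mul_inv, one_mul, ← mul_assoc s.1 (s⁻¹).1, Units.mul_inv, one_mul,
      ← mul_assoc N A.1, hcomm, mul_assoc]
  have c00 := congrFun (congrFun hc' 0) 0
  have c10 := congrFun (congrFun hc' 1) 0
  simp [Cfsg.Agent.Lib.PSp4Class.cmp, Matrix.mul_apply, Matrix.vecMul, dotProduct, Fin.sum_univ_two] at c00 c10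
  rw [Matrix.det_fin_two] at hN'd
  have h10 : N' 1 0 = 0 := by
    by_contra h
    refine hA (-N' 0 0 / N' 1 0) ?_
    field_simp
    linear_combination hN'd + N' 1 0 * c00 - N' 0 0 * c10
  have h01 : N' 0 1 = 0 := by rw [c00, h10]; ring
  have h11 : N' 1 1 = N' 0 0 := by rw [c10, h10]; ring
  have h00 : N' 0 0 = 0 := by
    rw [h10, h01, h11] at hN'd
    exact mul_self_eq_zero.1 (by linear_combination hN'd)
  have hN'0 : N' = 0 := by
    ext i j
    fin_cases i <;> fin_cases j <;> simp [h00, h01, h10, h11]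
  have hN0 : N = 0 := by
    have : N = s.1 * N' * (s⁻¹).1 := by
      rw [hN', ← mul_assoc, ← mul_assoc, Units.mul_inv, one_mul, mul_assoc, Units.mul_inv, mul_one]
    rw [this, hN'0, mul_zero, zero_mul]
  have hAk : A ^ k = 1 := Units.ext (sub_eq_zero.1 (hN ▸ hN0))
  have hpos : 0 < orderOf A := orderOf_pos A
  have hp2 : 2 ≤ p := (Fact.out : p.Prime).two_le
  have hk0 : 0 < k := by
    rcases Nat.eq_zero_or_pos k with h0 | h0
    · rw [h0, zero_mul] at hkp; omega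
    · exact h0
  have hle : orderOf A ≤ k := orderOf_le_of_pow_eq_one hk0 hAk
  have : k < k * p := lt_mul_of_one_lt_right hk0 (by omega)
  omega

end Cfsg.Agent.Lib.G2Gauss
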