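import Cfsg.Agent.Lib.G2Gauss.Basic

/-!
The rank one subgroups of G₂, the reflections, and the embedding of GL₂ as the Levi subgroup of the long
simple root.
-/

set_option autoImplicit false
set_option maxRecDepth 100000
set_option linter.unusedSectionVars false

namespace Cfsg.Agent.Lib.G2Gauss

open Cfsg.Lie Cfsg.Agent.Lib.ChevStructure
open scoped MatrixGroups Matrix

variable {F : Type*} [Field F]

/-- The homomorphism SL₂ → ⟨X_n, X_{-n}⟩. -/
noncomputable def phi (n : Fin 12) : Matrix.SpecialLinearGroup (Fin 2) F →* GL chevG2.Idx F :=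
  Classical.choose (C.exists_slHom F (rt n))

theorem phi_U (n : Fin 12) (t : F) : phi n (slU t) = X n t :=
  ((Classical.choose_spec (C.exists_slHom F (rt n))).2 t).1

theorem phi_L (n : Fin 12) (t : F) : phi n (slL t) = X n.rev t :=
  ((Classical.choose_spec (C.exists_slHom F (rt n))).2 t).2

theorem sl_generated : Subgroup.closure (Set.range (slU : F → Matrix.SpecialLinearGroup (Fin 2) F) ∪
    Set.range slL) = ⊤ := by
  rw [eq_top_iff]
  intro g _
  obtain ⟨y, hy⟩ := C.slGraph_fst_surj F (rt 6) g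
  have h := Subgroup.mem_map_of_mem (MonoidHom.fst (Matrix.SpecialLinearGroup (Fin 2) F) (GL chevG2.Idx F)) hy
  rw [Core.slGraph, MonoidHom.map_closure] at h
  refine Subgroup.closure_mono ?_ h
  rintro z ⟨w, ⟨t, rfl⟩ | ⟨t, rfl⟩, rfl⟩
  · exact Or.inl ⟨t, rfl⟩
  · exact Or.inr ⟨t, rfl⟩

theorem sl_induction {M : Subgroup (Matrix.SpecialLinearGroup (Fin 2) F)} (hU : ∀ t, slU t ∈ M)
    (hL : ∀ t, slL t ∈ M) (g : Matrix.SpecialLinearGroup (Fin 2) F) : g ∈ M := by
  have h : g ∈ (⊤ : Subgroup (Matrix.SpecialLinearGroup (Fin 2) F)) := Subgroup.mem_top g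
  rw [← sl_generated] at h
  refine (Subgroup.closure_le M).2 ?_ h
  rintro z (⟨t, rfl⟩ | ⟨t, rfl⟩)
  exacts [hU t, hL t]

theorem sl_hom_ext {P : Type*} [Group P] {f g : Matrix.SpecialLinearGroup (Fin 2) F →* P}
    (hU : ∀ t, f (slU t) = g (slU t)) (hL : ∀ t, f (slL t) = g (slL t))
    (S : Matrix.SpecialLinearGroup (Fin 2) F) : f S = g S :=
  sl_induction (M := MonoidHom.eqLocus f g) hU hL S

theorem phi_mem (n : Fin 12) (g : Matrix.SpecialLinearGroup (Fin 2) F) : phi n g ∈ chevG2.group F :=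
  sl_induction (M := (chevG2.group F).comap (phi n)) (fun t => by rw [Subgroup.mem_comap, phi_U]; exact X_mem n t)
    (fun t => by rw [Subgroup.mem_comap, phi_L]; exact X_mem _ t) g

/-- n_r = x_r(1) x_{-r}(-1) x_r(1). -/
noncomputable def nn (n : Fin 12) : GL chevG2.Idx F := C.nR F (rt n) 1

theorem nn_eq (n : Fin 12) : (nn n : GL chevG2.Idx F) = X n 1 * X n.rev (-1) * X n 1 := by
  simp [nn, Core.nR, X, rt_rev]

theorem nn_mem (n : Fin 12) : (nn n : GL chevG2.Idx F) ∈ chevG2.group F := C.nR_mem_group _ _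

theorem phi_N (n : Fin 12) (u : Fˣ) : phi n (slN u) = C.nR F (rt n) u := by
  rw [slN, map_mul, map_mul, phi_U, phi_L]
  rfl

theorem phi_H (n : Fin 12) (u : Fˣ) :
    phi n (slH u) = T (u ^ co chevG2 (rt n) i0) (u ^ co chevG2 (rt n) i1) := by
  rw [slH, map_mul, phi_N, phi_N, C.hR_eq, hD_eq]

/-- x_r(t) x_{-r}(s) = x_{-r}(s/f) h_r(f) x_r(t/f). -/
theorem X_X_rev (n : Fin 12) (t s : F) (f : Fˣ) (hf : (f : F) = 1 + t * s) :
    X n t * X n.rev s =
      X n.rev (((f⁻¹ : Fˣ) : F) * s) * T (f ^ co chevG2 (rt n) i0) (f ^ co chevG2 (rt n) i1) *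
        X n (((f⁻¹ : Fˣ) : F) * t) := by
  rw [← phi_U n t, ← phi_L n s, ← phi_H, ← phi_U n, ← phi_L n, ← map_mul, ← map_mul, ← map_mul]
  congr 1
  refine Subtype.ext ?_
  have h1 : (f : F) ≠ 0 := f.ne_zero
  simp only [Matrix.SpecialLinearGroup.coe_mul, slU_val, slL_val, slH_val, Matrix.mul_fin_two,
    Units.val_inv_eq_inv_val]
  ext i j
  fin_cases i <;> fin_cases j <;> simp
  all_goals (try field_simp)
  all_goals (rw [hf]; try ring)

theorem p_i0 : C.p i0 = rt 7 := by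
  have h := C.simple_eq i0
  exact Fin.ext (h.symm.trans (by decide))

theorem p_i1 : C.p i1 = rt 6 := by
  have h := C.simple_eq i1
  exact Fin.ext (h.symm.trans (by decide))

theorem exists_nA_X (n m : Fin 12) (h : chevG2.reflectRoot 0 n.val = m.val) :
    ∃ e : F, e ≠ 0 ∧ ∀ t : F, nn 7 * X n t = X m (e * t) * nn 7 := by
  refine ⟨(C.η i0 (rt n) : F), ?_, fun t => ?_⟩
  · rcases C.η_one i0 (rt n) with e | e <;> rw [e] <;> simp
  · have hw : C.w i0 (rt n) = rt m := Fin.ext ((C.w_eq i0 (rt n)).symm.trans h)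
    have e := C.P_X_conj F i0 (rt n) t
    rw [hw] at e
    rw [X, X, ← e, Core.P, p_i0, nn]
    group

theorem exists_nB_X (n m : Fin 12) (h : chevG2.reflectRoot 1 n.val = m.val) :
    ∃ e : F, e ≠ 0 ∧ ∀ t : F, nn 6 * X n t = X m (e * t) * nn 6 := by
  refine ⟨(C.η i1 (rt n) : F), ?_, fun t => ?_⟩
  · rcases C.η_one i1 (rt n) with e | e <;> rw [e] <;> simp
  · have hw : C.w i1 (rt n) = rt m := Fin.ext ((C.w_eq i1 (rt n)).symm.trans h)
    have e := C.P_X_conj F i1 (rt n) t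
    rw [hw] at e
    rw [X, X, ← e, Core.P, p_i1, nn]
    group

theorem nn_T (n : Fin 12) (x y : Fˣ) :
    nn n * T x y = T ((chi n x y)⁻¹ ^ co chevG2 (rt n) i0) ((chi n x y)⁻¹ ^ co chevG2 (rt n) i1) *
      T x y * nn n := by
  have hc : ∀ u : Fˣ, T x y * C.nR F (rt n) u = C.nR F (rt n) (chi n x y * u) * T x y := by
    intro u
    have hr : chi n.rev x y = (chi n x y)⁻¹ := by
      rw [← chA_eq, ← chA_eq, ← rt_rev]
      simp only [Core.chA, C.A_rev, zpow_neg, Finset.prod_inv_distrib]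
    have e1 : ∀ t, T x y * C.X F (rt n) t = C.X F (rt n) ((chi n x y : F) * t) * T x y := T_X n x y
    have e2 : ∀ t, T x y * C.X F (rt n).rev t = C.X F (rt n).rev (((chi n x y)⁻¹ : Fˣ) * t : F) * T x y := by
      intro t
      rw [rt_rev, ← hr]
      exact T_X n.rev x y t
    simp only [Core.nR]
    rw [← mul_assoc, ← mul_assoc, e1, mul_assoc (C.X F (rt n) _) (T x y), e2, ← mul_assoc,
      mul_assoc _ (T x y), e1, ← mul_assoc, _root_.mul_inv_rev, Units.val_mul, Units.val_mul]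
    congr 4
    ring
  have e := hc (-1)
  rw [← C.nR_inv] at e
  have e3 : nn n * T x y * (nn n)⁻¹ = nn n * C.nR F (rt n) (chi n x y * -1) * T x y := by
    rw [nn, mul_assoc, e, ← mul_assoc]
  rw [← mul_inv_eq_iff_eq_mul, e3, nn, C.nR_mul, hD_eq]
  have hh : (-((1 : Fˣ) * (chi n x y * -1)⁻¹)) = (chi n x y)⁻¹ := by
    rw [one_mul, _root_.mul_inv_rev]; simp
  rw [hh]

/-! ### The Levi subgroup GL₂ -/

/-- g · diag(1, 1/det g). -/
noncomputable def slPart (g : GL (Fin 2) F) : Matrix.SpecialLinearGroup (Fin 2) F :=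
  ⟨g.1 * !![1, 0; 0, (g.1.det)⁻¹], by
    have h : g.1.det ≠ 0 := Matrix.GeneralLinearGroup.det_ne_zero g
    rw [Matrix.det_mul, Matrix.det_fin_two_of, one_mul, zero_mul, sub_zero, mul_inv_cancel₀ h]⟩

/-- Conjugation by diag(1, d). -/
noncomputable def dconj (d : Fˣ) : Matrix.SpecialLinearGroup (Fin 2) F →* Matrix.SpecialLinearGroup (Fin 2) F where
  toFun S := ⟨!![1, 0; 0, (d : F)] * S.1 * !![1, 0; 0, ((d⁻¹ : Fˣ) : F)], by
    rw [Matrix.det_mul, Matrix.det_mul, Matrix.det_fin_two_of, Matrix.det_fin_two_of, S.2]; simp⟩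
  map_one' := by
    refine Subtype.ext ?_
    simp [Matrix.mul_fin_two, Matrix.one_fin_two]
  map_mul' S R := by
    refine Subtype.ext ?_
    show !![1, 0; 0, (d : F)] * (S.1 * R.1) * !![1, 0; 0, ((d⁻¹ : Fˣ) : F)] =
      (!![1, 0; 0, (d : F)] * S.1 * !![1, 0; 0, ((d⁻¹ : Fˣ) : F)]) *
        (!![1, 0; 0, (d : F)] * R.1 * !![1, 0; 0, ((d⁻¹ : Fˣ) : F)])
    have e : !![1, 0; 0, ((d⁻¹ : Fˣ) : F)] * !![1, 0; 0, (d : F)] = 1 := by
      simp [Matrix.mul_fin_two, Matrix.one_fin_two]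
    simp only [mul_assoc]
    rw [← mul_assoc !![1, 0; 0, ((d⁻¹ : Fˣ) : F)] !![1, 0; 0, (d : F)], e, one_mul]

theorem T_dd_phi (d : Fˣ) (S : Matrix.SpecialLinearGroup (Fin 2) F) :
    T d d * phi 6 S = phi 6 (dconj d S) * T d d := by
  have h := sl_hom_ext (f := (MulAut.conj (T d d)).toMonoidHom.comp (phi 6)) (g := (phi 6).comp (dconj d))
    (fun t => ?_) (fun t => ?_) S
  · have h' : T d d * phi 6 S * (T d d)⁻¹ = phi 6 (dconj d S) := h
    rw [← h', inv_mul_cancel_right]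
  · show T d d * phi 6 (slU t) * (T d d)⁻¹ = phi 6 (dconj d (slU t))
    have e : dconj d (slU t) = slU (((d⁻¹ : Fˣ) : F) * t) := by
      refine Subtype.ext ?_
      show !![1, 0; 0, (d : F)] * (slU t).1 * !![1, 0; 0, ((d⁻¹ : Fˣ) : F)] = (slU _).1
      simp [Matrix.mul_fin_two, mul_comm]
    rw [e, phi_U, phi_U, T_X, mul_inv_cancel_right]
    congr 2
    show ((d ^ (-3 : ℤ) * d ^ (2 : ℤ) : Fˣ) : F) = _
    rw [← zpow_add]; norm_num
  · show T d d * phi 6 (slL t) * (T d d)⁻¹ = phi 6 (dconj d (slL t))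
    have e : dconj d (slL t) = slL ((d : F) * t) := by
      refine Subtype.ext ?_
      show !![1, 0; 0, (d : F)] * (slL t).1 * !![1, 0; 0, ((d⁻¹ : Fˣ) : F)] = (slL _).1
      simp [Matrix.mul_fin_two]
    rw [e, phi_L, phi_L, T_X, mul_inv_cancel_right]
    congr 2
    show ((d ^ (3 : ℤ) * d ^ (-2 : ℤ) : Fˣ) : F) = _
    rw [← zpow_add]; norm_num

/-- The embedding of GL₂ as the Levi subgroup of b. -/
noncomputable def psi : GL (Fin 2) F →* GL chevG2.Idx F :=
  MonoidHom.mk' (fun g => phi 6 (slPart g) * T (Matrix.GeneralLinearGroup.det g) (Matrix.GeneralLinearGroup.det g))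
    (fun g h => by
      have hd : slPart (g * h) = slPart g * dconj (Matrix.GeneralLinearGroup.det g) (slPart h) := by
        refine Subtype.ext ?_
        have h1 : g.1.det ≠ 0 := Matrix.GeneralLinearGroup.det_ne_zero g
        have e : !![1, 0; 0, g.1.det⁻¹] * !![1, 0; 0, g.1.det] = 1 := by
          simp [Matrix.mul_fin_two, Matrix.one_fin_two, h1]
        have e2 : !![1, 0; 0, (g.1.det * h.1.det)⁻¹] = !![1, 0; 0, h.1.det⁻¹] * !![1, 0; 0, g.1.det⁻¹] := by
          simp [Matrix.mul_fin_two, mul_comm]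
        show g.1 * h.1 * !![1, 0; 0, ((g.1 * h.1).det)⁻¹] =
          g.1 * !![1, 0; 0, g.1.det⁻¹] * (!![1, 0; 0, g.1.det] * (h.1 * !![1, 0; 0, h.1.det⁻¹]) *
            !![1, 0; 0, (((Matrix.GeneralLinearGroup.det g)⁻¹ : Fˣ) : F)])
        rw [Units.val_inv_eq_inv_val, Matrix.GeneralLinearGroup.val_det_apply, Matrix.det_mul]
        rw [e2, mul_assoc g.1 h.1, mul_assoc g.1 !![1, 0; 0, g.1.det⁻¹]]
        congr 1
        simp only [← mul_assoc, e, one_mul]
      simp only [map_mul, hd]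
      rw [← T_mul, mul_assoc _ (T _ _) _, ← mul_assoc (T _ _) (phi 6 _), T_dd_phi]
      simp only [mul_assoc])

theorem psi_mem (g : GL (Fin 2) F) : psi g ∈ chevG2.group F := mul_mem (phi_mem _ _) (T_mem _ _)

theorem psi_of_sl (S : Matrix.SpecialLinearGroup (Fin 2) F) :
    psi (Matrix.SpecialLinearGroup.toGL S) = phi 6 S := by
  have hd : Matrix.GeneralLinearGroup.det (Matrix.SpecialLinearGroup.toGL S) = 1 := Units.ext (by simp [S.2])
  have hs : slPart (Matrix.SpecialLinearGroup.toGL S) = S := by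
    refine Subtype.ext ?_
    show S.1 * !![1, 0; 0, S.1.det⁻¹] = S.1
    rw [S.2, inv_one, ← Matrix.one_fin_two, mul_one]
  show phi 6 _ * T _ _ = _
  rw [hd, hs, T_one, mul_one]

/-- diag(s₁, s₂). -/
noncomputable def dg (a b : Fˣ) : GL (Fin 2) F :=
  ⟨!![(a : F), 0; 0, (b : F)], !![((a⁻¹ : Fˣ) : F), 0; 0, ((b⁻¹ : Fˣ) : F)],
    by simp [Matrix.mul_fin_two, Matrix.one_fin_two], by simp [Matrix.mul_fin_two, Matrix.one_fin_two]⟩

theorem det_dg (a b : Fˣ) : Matrix.GeneralLinearGroup.det (dg a b) = a * b :=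
  Units.ext (by simp [dg, Matrix.det_fin_two_of])

theorem psi_dg (a b : Fˣ) : psi (dg a b) = T (a * b) (a * a * b) := by
  have hs : slPart (dg a b) = slH a := by
    refine Subtype.ext ?_
    simp [slPart, dg, slH_val, Matrix.mul_fin_two, Matrix.det_fin_two_of]
  show phi 6 _ * T _ _ = _
  rw [hs, phi_H, det_dg, T_mul]
  congr 1
  · rw [show co chevG2 (rt 6) i0 = 0 by decide, zpow_zero, one_mul]
  · rw [show co chevG2 (rt 6) i1 = 1 by decide, zpow_one, mul_assoc]

/-- The reflection in 2a+b sends ψ(g) to ψ(g / det g). -/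
theorem nn9_psi (g : GL (Fin 2) F) :
    nn 9 * psi g = psi (g * dg (Matrix.GeneralLinearGroup.det g)⁻¹ (Matrix.GeneralLinearGroup.det g)⁻¹) * nn 9 := by
  have hc : ∀ S : Matrix.SpecialLinearGroup (Fin 2) F, nn 9 * phi 6 S = phi 6 S * nn 9 := by
    intro S
    have h : S ∈ (Subgroup.centralizer {(nn 9 : GL chevG2.Idx F)}).comap (phi 6) := by
      refine sl_induction (fun t => ?_) (fun t => ?_) S
      · rw [Subgroup.mem_comap, Subgroup.mem_centralizer_singleton_iff, phi_U, nn_eq]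
        simp only [← mul_assoc]
        rw [← comm_X 9 6 (by decide) 1 t, mul_assoc (X 9 1) (X 6 t),
          ← comm_X (Fin.rev 9) 6 (by decide) (-1) t, ← mul_assoc, mul_assoc _ (X 6 t),
          ← comm_X 9 6 (by decide) 1 t]
        simp only [mul_assoc]
      · rw [Subgroup.mem_comap, Subgroup.mem_centralizer_singleton_iff, phi_L, nn_eq]
        simp only [← mul_assoc]
        rw [← comm_X 9 (Fin.rev 6) (by decide) 1 t, mul_assoc (X 9 1) (X (Fin.rev 6) t),
          ← comm_X (Fin.rev 9) (Fin.rev 6) (by decide) (-1) t, ← mul_assoc, mul_assoc _ (X (Fin.rev 6) t),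
          ← comm_X 9 (Fin.rev 6) (by decide) 1 t]
        simp only [mul_assoc]
    exact (Subgroup.mem_centralizer_singleton_iff.1 h).symm
  set d := Matrix.GeneralLinearGroup.det g
  have hg : g = Matrix.SpecialLinearGroup.toGL (slPart g) * dg 1 d := by
    refine Units.ext ?_
    have h1 : g.1.det ≠ 0 := Matrix.GeneralLinearGroup.det_ne_zero g
    show g.1 = g.1 * !![1, 0; 0, g.1.det⁻¹] * !![((1 : Fˣ) : F), 0; 0, (d : F)]
    rw [mul_assoc]
    simp [d, Matrix.mul_fin_two, h1, ← Matrix.one_fin_two]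
  have hT : nn 9 * psi (dg 1 d) = psi (dg 1 d * dg d⁻¹ d⁻¹) * nn 9 := by
    rw [map_mul, psi_dg, psi_dg, T_mul, nn_T, T_mul]
    have hchi : chi 9 (1 * d) (1 * 1 * d) = d := by
      rw [one_mul, one_mul, one_mul, chi, show A chevG2 i0 (rt 9) = 1 by decide,
        show A chevG2 i1 (rt 9) = 0 by decide, zpow_one, zpow_zero, mul_one]
    rw [hchi, show co chevG2 (rt 9) i0 = 2 by decide, show co chevG2 (rt 9) i1 = 3 by decide]
    congr 2 <;> · refine Units.ext ?_; simp [zpow_ofNat, pow_succ]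
  calc nn 9 * psi g = nn 9 * phi 6 (slPart g) * psi (dg 1 d) := by
        conv_lhs => rw [hg, map_mul, psi_of_sl, ← mul_assoc]
    _ = phi 6 (slPart g) * (nn 9 * psi (dg 1 d)) := by rw [hc, mul_assoc]
    _ = _ := by rw [hT, ← mul_assoc, ← psi_of_sl, ← map_mul, ← mul_assoc, ← hg]

end Cfsg.Agent.Lib.G2Gauss
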