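import Cfsg.Agent.Lib.ChevStructure.RankOne
import Cfsg.Agent.Lib.ChevStructure.Unipotent
import Cfsg.Agent.Lib.ChevStructure.BN

/-!
Notation and elementary relations in the Chevalley group of type G₂.

The positive roots are 6 = b (long), 7 = a (short), 8 = a+b, 9 = 2a+b, 10 = 3a+b, 11 = 3a+2b;
the negative of n is 11 - n.
-/

set_option autoImplicit false
set_option maxRecDepth 100000
set_option linter.unusedSectionVars false

namespace Cfsg.Agent.Lib.G2Gauss

open Cfsg.Lie Cfsg.Agent.Lib.ChevStructure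
open scoped MatrixGroups Matrix

/-- The table. -/
noncomputable abbrev C : Core chevG2 := Cert.G2.core

theorem H : CommOK C := commOK_G2

/-- The root of index n. -/
def rt (n : Fin 12) : Rt chevG2 := ⟨n.val, n.isLt⟩

theorem rt_rev (n : Fin 12) : (rt n).rev = rt n.rev := rfl

theorem rt_surj (r : Rt chevG2) : ∃ n, r = rt n := ⟨⟨r.val, r.isLt⟩, rfl⟩

variable {F : Type*} [Field F]

/-- The root element. -/
noncomputable def X (n : Fin 12) (t : F) : GL chevG2.Idx F := C.X F (rt n) t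

/-- The index of the short simple root. -/
def i0 : Fin chevG2.rank := ⟨0, Nat.zero_lt_two⟩

/-- The index of the long simple root. -/
def i1 : Fin chevG2.rank := ⟨1, Nat.one_lt_two⟩

/-- Coordinates of a torus element. -/
def cv (x y : Fˣ) : Fin chevG2.rank → Fˣ := fun j => if j.val = 0 then x else y

theorem cv_eta (c : Fin chevG2.rank → Fˣ) : cv (c i0) (c i1) = c := by
  funext j
  rcases j with ⟨_ | _ | k, hk⟩
  · rfl
  · rfl
  · exact absurd hk (by show ¬ k + 2 < 2; omega)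

/-- The torus element h_a(x) h_b(y). -/
noncomputable def T (x y : Fˣ) : GL chevG2.Idx F := C.HT F (cv x y)

theorem X_add (n : Fin 12) (s t : F) : X n s * X n t = X n (s + t) := C.X_add F _ s t

theorem X_zero (n : Fin 12) : X n (0 : F) = 1 := C.X_zero F _

theorem X_inv (n : Fin 12) (t : F) : (X n t)⁻¹ = X n (-t) := C.X_inv F _ t

theorem X_neg_cancel (n : Fin 12) (t : F) : X n t * X n (-t) = 1 := by
  rw [X_add, add_neg_cancel, X_zero]

theorem X_mem (n : Fin 12) (t : F) : X n t ∈ chevG2.group F := C.X_mem_group _ t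

theorem T_mem (x y : Fˣ) : T x y ∈ chevG2.group F := C.HT_mem_group _

theorem T_mul (x y x' y' : Fˣ) : T x y * T x' y' = T (x * x') (y * y') := by
  rw [T, T, C.HT_mul, T]
  congr 1
  funext j
  unfold cv
  by_cases h : j.val = 0 <;> simp [h]

theorem T_one : T (1 : Fˣ) 1 = 1 := by
  rw [T, ← C.HT_one (R := F)]
  congr 1
  funext j
  simp [cv]

theorem T_inv (x y : Fˣ) : (T x y)⁻¹ = T x⁻¹ y⁻¹ :=
  inv_eq_of_mul_eq_one_right (by rw [T_mul, mul_inv_cancel, mul_inv_cancel, T_one])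

/-- The value of the root n at T x y. -/
def chi (n : Fin 12) (x y : Fˣ) : Fˣ :=
  x ^ A chevG2 i0 (rt n) * y ^ A chevG2 i1 (rt n)

theorem chA_eq (n : Fin 12) (x y : Fˣ) :
    C.chA (cv x y) (rt n) = chi n x y := by
  show ∏ j : Fin 2, cv x y j ^ A chevG2 j (rt n) = _
  rw [Fin.prod_univ_two]
  rfl

theorem T_X (n : Fin 12) (x y : Fˣ) (t : F) : T x y * X n t = X n ((chi n x y : F) * t) * T x y := by
  have := C.HT_X_conj F (cv x y) (rt n) t
  rw [chA_eq] at this
  rw [X, X, ← this, T]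
  group

theorem X_T (n : Fin 12) (x y : Fˣ) (t : F) :
    X n t * T x y = T x y * X n (((chi n x y)⁻¹ : Fˣ) * t : F) := by
  rw [T_X, ← mul_assoc, Units.mul_inv, one_mul]

theorem hD_eq (n : Fin 12) (u : Fˣ) :
    Core.hD F (rt n) u = T (u ^ co chevG2 (rt n) i0) (u ^ co chevG2 (rt n) i1) := by
  rw [C.hD_eq_HT, T, ← cv_eta (fun j => u ^ co chevG2 (rt n) j)]

/-- Chevalley's commutator formula for the listed terms. -/
theorem conj_X (r s : Fin 12) (L : List (ℕ × ℤ × ℕ × ℕ))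
    (h : s ≠ r ∧ s ≠ r.rev ∧ chevG2.commTerms r.val s.val = L ∧ ∀ c ∈ L, c.1 < 12) (z u : F) :
    X r z * X s u * X r (-z) = X s u *
      (L.map fun c => X (Fin.ofNat 12 c.1) ((c.2.1 : F) * z ^ c.2.2.1 * u ^ c.2.2.2)).prod := by
  obtain ⟨h1, h2, h3, h4⟩ := h
  have e := H.comm_X (rt r) (rt s) (fun e => h1 (Fin.ext (Fin.ext_iff.1 e :)))
    (fun e => h2 (Fin.ext (Fin.ext_iff.1 e :))) (-z) u
  rw [show (rt r).val = r.val from rfl, show (rt s).val = s.val from rfl, h3] at e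
  rw [mul_assoc, X, X, X, e, ← mul_assoc, ← mul_assoc, C.X_add, add_neg_cancel, C.X_zero, one_mul]
  congr 2
  refine List.map_congr_left fun c hc => ?_
  rw [neg_neg, X, ← C.XN_fin]
  congr 2
  show c.1 = c.1 % 12
  rw [Nat.mod_eq_of_lt (h4 c hc)]

theorem comm_X (r s : Fin 12) (h : s ≠ r ∧ s ≠ r.rev ∧ chevG2.commTerms r.val s.val = []) (z u : F) :
    X r z * X s u = X s u * X r z := by
  have e := conj_X r s [] ⟨h.1, h.2.1, h.2.2, by simp⟩ z u
  simp only [List.map_nil, List.prod_nil, mul_one] at e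
  calc X r z * X s u = X r z * X s u * X r (-z) * X r z := by rw [mul_assoc _ (X r (-z)), X_add, neg_add_cancel, X_zero, mul_one]
    _ = _ := by rw [e]

/-! ### Subgroups generated by root subgroups -/

/-- The group generated by the root subgroups in a finite set of roots. -/
noncomputable def U (S : Finset (Fin 12)) (F : Type*) [Field F] : Subgroup (GL chevG2.Idx F) :=
  C.US F (rt '' ↑S)

theorem X_mem_U {S : Finset (Fin 12)} {n : Fin 12} (h : n ∈ S) (t : F) : X n t ∈ U S F :=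
  C.X_mem_US F (Set.mem_image_of_mem rt (Finset.mem_coe.2 h)) t

theorem U_le {S : Finset (Fin 12)} {M : Subgroup (GL chevG2.Idx F)} (h : ∀ n ∈ S, ∀ t : F, X n t ∈ M) :
    U S F ≤ M := by
  refine (Subgroup.closure_le _).2 ?_
  rintro g ⟨r, ⟨n, hn, rfl⟩, t, rfl⟩
  exact h n hn t

theorem U_mono {S T : Finset (Fin 12)} (h : S ⊆ T) : U S F ≤ U T F :=
  U_le fun _ hn t => X_mem_U (h hn) t

theorem U_le_group (S : Finset (Fin 12)) : U S F ≤ chevG2.group F := U_le fun n _ t => X_mem n t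

/-- X_r normalises the group of S. -/
def Stab (r : Fin 12) (S : Finset (Fin 12)) : Prop :=
  r.rev ∉ S ∧ ∀ s ∈ S, s ≠ r → ∀ c ∈ chevG2.commTerms r.val s.val, c.1 < 12 ∧ Fin.ofNat 12 c.1 ∈ S

instance (r : Fin 12) (S : Finset (Fin 12)) : Decidable (Stab r S) := by unfold Stab; infer_instance

theorem conj_U {r : Fin 12} {S : Finset (Fin 12)} (h : Stab r S) (z : F) {g : GL chevG2.Idx F}
    (hg : g ∈ U S F) : X r z * g * X r (-z) ∈ U S F := by
  have hle : U S F ≤ (U S F).comap (MulAut.conj (X r z)).toMonoidHom := by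
    refine U_le fun n hn t => ?_
    show X r z * X n t * (X r z)⁻¹ ∈ U S F
    rw [X_inv]
    by_cases hnr : n = r
    · subst hnr
      rw [X_add, X_add]
      exact X_mem_U hn _
    rw [conj_X r n _ ⟨hnr, fun e => h.1 (e ▸ hn), rfl, fun c hc => (h.2 n hn hnr c hc).1⟩]
    refine mul_mem (X_mem_U hn t) (list_prod_mem fun g hg => ?_)
    rw [List.mem_map] at hg
    obtain ⟨c, hc, rfl⟩ := hg
    exact X_mem_U (h.2 n hn hnr c hc).2 _
  have := hle hg
  rwa [Subgroup.mem_comap, MulEquiv.coe_toMonoidHom, MulAut.conj_apply, X_inv] at this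

theorem T_conj_U (S : Finset (Fin 12)) (x y : Fˣ) {g : GL chevG2.Idx F} (hg : g ∈ U S F) :
    T x y * g * (T x y)⁻¹ ∈ U S F :=
  (Subgroup.mem_normalizer_iff.1 (C.HT_mem_normalizer F _ _) g).1 hg

theorem T_conj_U' (S : Finset (Fin 12)) (x y : Fˣ) {g : GL chevG2.Idx F} (hg : g ∈ U S F) :
    (T x y)⁻¹ * g * T x y ∈ U S F := by
  have := T_conj_U S x⁻¹ y⁻¹ hg
  rwa [← T_inv, inv_inv] at this

/-- All positive roots. -/
def Pos : Finset (Fin 12) := {6, 7, 8, 9, 10, 11}

/-- The unipotent radical for the Levi subgroup of the long root b. -/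
def Qb : Finset (Fin 12) := {7, 8, 9, 10, 11}

/-- The opposite radical. -/
def Qn : Finset (Fin 12) := {0, 1, 2, 3, 4}

/-- The unipotent radical for the Levi subgroup of the short root a. -/
def Qa : Finset (Fin 12) := {6, 8, 9, 10, 11}

theorem Pos_eq : rt '' (↑Pos : Set (Fin 12)) = C.Pos := by
  have key : ∀ n : Fin 12, n ∈ Pos ↔ 12 ≤ 2 * n.val := by decide
  ext r
  obtain ⟨n, rfl⟩ := rt_surj r
  constructor
  · rintro ⟨m, hm, e⟩
    rw [← e]; exact (key m).1 hm
  · intro h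
    exact ⟨n, (key n).2 h, rfl⟩

theorem U_pos : U Pos F = C.US F C.Pos := by rw [U, Pos_eq]

/-- B = U T. -/
theorem mem_borel {g : GL chevG2.Idx F} (hg : g ∈ chevG2.borelSubgroup F) :
    ∃ x y : Fˣ, ∃ u ∈ U Pos F, g = T x y * u := by
  obtain ⟨v, hv, k, hk, rfl⟩ := C.mem_borel_iff.1 hg
  obtain ⟨c, rfl⟩ := C.mem_diagonal_iff.1 hk
  have hT : C.HT F c = T (c i0) (c i1) := by rw [T, cv_eta]
  rw [← U_pos] at hv
  rw [hT]
  exact ⟨c i0, c i1, _, T_conj_U' Pos (c i0) (c i1) hv, by simp [mul_assoc]⟩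

/-! ### The coordinate of b -/

/-- The coefficient of b of an element of U, read off the adjoint matrix. -/
noncomputable def kap (g : GL chevG2.Idx F) : F :=
  (g : Matrix chevG2.Idx chevG2.Idx F) (Sum.inl i1) (Sum.inr (rt 5))

theorem kap_mul {g h : GL chevG2.Idx F} (hg : g ∈ U Pos F) (hh : h ∈ U Pos F) :
    kap (g * h) = kap g + kap h := by
  rw [U_pos] at hg hh
  have hgu := (C.US_le_upperU F le_rfl (σ := 1) (S := C.Pos) (fun r hr => by rw [one_mul]; exact C.ht_pos hr) hg).1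
  have hhu := (C.US_le_upperU F le_rfl (σ := 1) (S := C.Pos) (fun r hr => by rw [one_mul]; exact C.ht_pos hr) hh).1
  have gap : ∀ r : Rt chevG2, ¬ (C.ht (rt 5) < C.ht r ∧ C.ht r < 0) := by
    intro r ⟨h1, h2⟩
    have h3 := C.lt_of_ht_lt h1
    have h4 : 2 * r.val < 12 := (C.neg_iff_ht r).2 h2
    rw [Fin.lt_def] at h3
    have : (rt 5).val = 5 := rfl
    omega
  have h55 : ∀ k : GL chevG2.Idx F, (∀ a b, ((k : Matrix chevG2.Idx chevG2.Idx F) - 1) a b ≠ 0 →
      1 * C.fht b + 0 < 1 * C.fht a) → ∀ a, (k : Matrix chevG2.Idx chevG2.Idx F) a a = 1 := by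
    intro k hk a
    by_contra hne
    have := hk a a (by simp [sub_eq_zero, hne])
    omega
  show ((g * h : GL chevG2.Idx F) : Matrix chevG2.Idx chevG2.Idx F) _ _ = _
  rw [Units.val_mul, Matrix.mul_apply,
    Finset.sum_eq_add_of_mem (Sum.inl i1) (Sum.inr (rt 5)) (Finset.mem_univ _) (Finset.mem_univ _)
      (by simp)]
  · rw [h55 g hgu, h55 h hhu, one_mul, mul_one]
    exact add_comm _ _
  · intro c _ hc
    by_contra hne
    have h1 := hgu (Sum.inl i1) c (by simp [Matrix.one_apply, Ne.symm hc.1]; exact left_ne_zero_of_mul hne)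
    have h2 := hhu c (Sum.inr (rt 5)) (by simp [Matrix.one_apply, hc.2]; exact right_ne_zero_of_mul hne)
    simp only [one_mul, add_zero, C.fht_inl, C.fht_inr] at h1 h2
    rcases c with c | c
    · rw [C.fht_inl] at h1; omega
    · rw [C.fht_inr] at h1 h2; exact gap c ⟨h2, h1⟩

theorem kap_one : kap (1 : GL chevG2.Idx F) = 0 := by simp [kap]

theorem kap_inv {g : GL chevG2.Idx F} (hg : g ∈ U Pos F) : kap g⁻¹ = - kap g := by
  have := kap_mul (inv_mem hg) hg
  rw [inv_mul_cancel, kap_one] at this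
  exact eq_neg_of_add_eq_zero_left this.symm

theorem kap_X (n : Fin 12) (hn : n ∈ Pos) (t : F) : kap (X n t) = if n = 6 then t else 0 := by
  have key : ∀ n : Fin 12, n ∈ Pos → n ≠ 6 → (rt 5) ≠ (rt n).rev ∧
      ∀ k : Fin 3, E chevG2 (k.val + 1) (rt n) (Sum.inl i1) (Sum.inr (rt 5)) = 0 := by decide
  have e6 : E chevG2 1 (rt 6) (Sum.inl i1) (Sum.inr (rt 5)) = 1 ∧
      E chevG2 2 (rt 6) (Sum.inl i1) (Sum.inr (rt 5)) = 0 ∧
      E chevG2 3 (rt 6) (Sum.inl i1) (Sum.inr (rt 5)) = 0 := by decide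
  have e : kap (X n t) = ∑ k ∈ Finset.range 3, t ^ (k + 1) *
      (E chevG2 (k + 1) (rt n) (Sum.inl i1) (Sum.inr (rt 5)) : F) := by
    rw [kap, X, C.X_val, xI, Finset.sum_range_succ' _ 3, C.Ek_zero]
    simp [Matrix.sum_apply, Ek, Matrix.one_apply]
  rw [e]
  split_ifs with h
  · subst h
    simp [Finset.sum_range_succ, e6.1, e6.2.1, e6.2.2]
  · have k0 := (key n hn h).2 0
    have k1 := (key n hn h).2 1
    have k2 := (key n hn h).2 2
    simp only [Fin.val_zero, Fin.val_one, Fin.val_two, Nat.zero_add, Nat.reduceAdd] at k0 k1 k2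
    simp [Finset.sum_range_succ, k0, k1, k2]

end Cfsg.Agent.Lib.G2Gauss
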