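import Cfsg.Agent.Lib.G2Gauss.Count
import Cfsg.Agent.Lib.PSp4Class.TwoByTwo

/-!
Every element of G₂(q), q ≥ 3, is conjugate to an element v φ(A) q with v in the radical opposite to the
long-root parabolic, q in its radical, and A ∈ SL₂ either 1 or non-scalar of trace different from 2.
-/

set_option autoImplicit false
set_option maxRecDepth 100000
set_option linter.unusedSectionVars false

namespace Cfsg.Agent.Lib.G2Gauss

open Cfsg.Lie Cfsg.Agent.Lib.ChevStructure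
open Cfsg.Agent.Lib.PSp4Class (NonScalar nonScalar_of_irred exists_similar)
open scoped MatrixGroups Matrix

variable {F : Type*} [Field F]

/-- Admissible middle parts. -/
def Adm (A : Matrix.SpecialLinearGroup (Fin 2) F) : Prop := A = 1 ∨ (NonScalar A.1 ∧ A.1.trace ≠ 2)

/-- The target. -/
def Good (g : GL chevG2.Idx F) : Prop :=
  ∃ k ∈ chevG2.group F, ∃ v ∈ U Qn F, ∃ q ∈ U Qb F, ∃ A, Adm A ∧ k * g * k⁻¹ = v * phi 6 A * q

theorem Good.of_conj {g k : GL chevG2.Idx F} (hk : k ∈ chevG2.group F) (h : Good (k * g * k⁻¹)) : Good g := by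
  obtain ⟨k', hk', v, hv, q, hq, A, hA, e⟩ := h
  exact ⟨k' * k, mul_mem hk' hk, v, hv, q, hq, A, hA, by rw [← e]; group⟩

theorem Good.of_conj' {g g' k : GL chevG2.Idx F} (hk : k ∈ chevG2.group F) (e : k * g * k⁻¹ = g')
    (h : Good g') : Good g := Good.of_conj hk (e ▸ h)

/-! ### Subgroups -/

theorem exists_split (r : Fin 12) {S T' : Finset (Fin 12)} (h : Stab r S) (hT : T' = insert r S)
    {g : GL chevG2.Idx F} (hg : g ∈ U T' F) : ∃ t : F, ∃ q ∈ U S F, g = X r t * q := by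
  subst hT
  let M : Subgroup (GL chevG2.Idx F) :=
    { carrier := {g | ∃ t : F, ∃ q ∈ U S F, g = X r t * q}
      one_mem' := ⟨0, 1, one_mem _, by rw [X_zero, one_mul]⟩
      mul_mem' := by
        rintro a b ⟨t, q, hq, rfl⟩ ⟨t', q', hq', rfl⟩
        refine ⟨t + t', X r (-t') * q * X r t' * q', mul_mem ?_ hq', ?_⟩
        · have := conj_U h (-t') hq
          rwa [neg_neg] at this
        · rw [← X_add, ← X_inv]; group
      inv_mem' := by
        rintro a ⟨t, q, hq, rfl⟩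
        refine ⟨-t, X r t * q⁻¹ * X r (-t), conj_U h t (inv_mem hq), ?_⟩
        rw [← X_inv]; group }
  refine (U_le (M := M) ?_) hg
  intro n hn t
  rcases Finset.mem_insert.1 hn with rfl | hn
  · exact ⟨t, 1, one_mem _, by rw [mul_one]⟩
  · exact ⟨0, X n t, X_mem_U hn t, by rw [X_zero, one_mul]⟩

theorem kap_zero {S : Finset (Fin 12)} (hS : S ⊆ Qb) {g : GL chevG2.Idx F} (hg : g ∈ U S F) : kap g = 0 := by
  let M : Subgroup (GL chevG2.Idx F) :=
    { carrier := {g | g ∈ U Pos F ∧ kap g = 0}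
      one_mem' := ⟨one_mem _, kap_one⟩
      mul_mem' := fun ha hb => ⟨mul_mem ha.1 hb.1, by rw [kap_mul ha.1 hb.1, ha.2, hb.2, add_zero]⟩
      inv_mem' := fun ha => ⟨inv_mem ha.1, by rw [kap_inv ha.1, ha.2, neg_zero]⟩ }
  have key : ∀ n : Fin 12, n ∈ Qb → n ∈ Pos ∧ n ≠ 6 := by decide
  refine ((U_le (M := M) fun n hn t => ?_) hg).2
  obtain ⟨h1, h2⟩ := key n (hS hn)
  exact ⟨X_mem_U h1 t, by rw [kap_X n h1, if_neg h2]⟩

theorem exists_split_b {u : GL chevG2.Idx F} (hu : u ∈ U Pos F) :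
    ∃ q ∈ U Qb F, u = X 6 (kap u) * q := by
  obtain ⟨t, q, hq, rfl⟩ := exists_split 6 (S := Qb) (T' := Pos) (by decide) (by decide) hu
  refine ⟨q, hq, ?_⟩
  rw [kap_mul (X_mem_U (by decide) t) (U_mono (by decide) hq), kap_zero (S := Qb) (by decide) hq,
    kap_X 6 (by decide), if_pos rfl, add_zero]

theorem phi6_conj_U (S : Finset (Fin 12)) (h5 : Stab 5 S) (h6 : Stab 6 S)
    (A : Matrix.SpecialLinearGroup (Fin 2) F) {g : GL chevG2.Idx F} (hg : g ∈ U S F) :
    phi 6 A * g * (phi 6 A)⁻¹ ∈ U S F := by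
  have hnorm : ∀ r, Stab r S → ∀ t : F, X r t ∈ Subgroup.normalizer (U S F : Set (GL chevG2.Idx F)) := by
    intro r hr t
    rw [Subgroup.mem_normalizer_iff]
    intro x
    refine ⟨fun hx => by rw [X_inv]; exact conj_U hr t hx, fun hx => ?_⟩
    have := conj_U hr (-t) hx
    rw [neg_neg, ← X_inv] at this
    simpa [mul_assoc] using this
  have h := sl_induction (M := (Subgroup.normalizer (U S F : Set (GL chevG2.Idx F))).comap (phi 6))
    (fun t => by rw [Subgroup.mem_comap, phi_U]; exact hnorm 6 h6 t)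
    (fun t => by rw [Subgroup.mem_comap, phi_L]; exact hnorm (Fin.rev 6) h5 t) A
  exact (Subgroup.mem_normalizer_iff.1 h g).1 hg

theorem psi_conj_U (S : Finset (Fin 12)) (h5 : Stab 5 S) (h6 : Stab 6 S)
    (g : GL (Fin 2) F) {x : GL chevG2.Idx F} (hx : x ∈ U S F) : psi g * x * (psi g)⁻¹ ∈ U S F := by
  have h := phi6_conj_U S h5 h6 (slPart g)
    (T_conj_U S (Matrix.GeneralLinearGroup.det g) (Matrix.GeneralLinearGroup.det g) hx)
  show phi 6 (slPart g) * T _ _ * x * (phi 6 (slPart g) * T _ _)⁻¹ ∈ U S F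
  rw [_root_.mul_inv_rev]
  simpa [mul_assoc] using h

theorem kap_T_conj (x y : Fˣ) {w : GL chevG2.Idx F} (hw : w ∈ U Pos F) :
    kap ((T x y)⁻¹ * w * T x y) = (((chi 6 x y)⁻¹ : Fˣ) : F) * kap w := by
  obtain ⟨q, hq, e⟩ := exists_split_b hw
  have hq' := T_conj_U' Qb x y hq
  have : (T x y)⁻¹ * w * T x y = X 6 ((((chi 6 x y)⁻¹ : Fˣ) : F) * kap w) * ((T x y)⁻¹ * q * T x y) := by
    conv_lhs => rw [e]
    rw [show (T x y)⁻¹ * (X 6 (kap w) * q) * T x y =
      (T x y)⁻¹ * X 6 (kap w) * T x y * ((T x y)⁻¹ * q * T x y) by group, mul_assoc (T x y)⁻¹, X_T,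
      inv_mul_cancel_left]
  rw [this, kap_mul (X_mem_U (by decide) _) (U_mono (by decide) hq'), kap_zero (S := Qb) (by decide) hq',
    kap_X 6 (by decide), if_pos rfl, add_zero]

theorem nA_conj_U {S S' : Finset (Fin 12)}
    (h : ∀ n ∈ S, ∃ m ∈ S', chevG2.reflectRoot 0 n.val = m.val) {g : GL chevG2.Idx F} (hg : g ∈ U S F) :
    nn 7 * g * (nn 7)⁻¹ ∈ U S' F := by
  refine (U_le (M := (U S' F).comap (MulAut.conj (nn 7 : GL chevG2.Idx F)).toMonoidHom) fun n hn t => ?_) hg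
  obtain ⟨m, hm, e⟩ := h n hn
  obtain ⟨ε, -, hε⟩ := exists_nA_X (F := F) n m e
  show nn 7 * X n t * (nn 7)⁻¹ ∈ U S' F
  rw [hε, mul_inv_cancel_right]
  exact X_mem_U hm _

theorem nB_conj_U {S S' : Finset (Fin 12)}
    (h : ∀ n ∈ S, ∃ m ∈ S', chevG2.reflectRoot 1 n.val = m.val) {g : GL chevG2.Idx F} (hg : g ∈ U S F) :
    nn 6 * g * (nn 6)⁻¹ ∈ U S' F := by
  refine (U_le (M := (U S' F).comap (MulAut.conj (nn 6 : GL chevG2.Idx F)).toMonoidHom) fun n hn t => ?_) hg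
  obtain ⟨m, hm, e⟩ := h n hn
  obtain ⟨ε, -, hε⟩ := exists_nB_X (F := F) n m e
  show nn 6 * X n t * (nn 6)⁻¹ ∈ U S' F
  rw [hε, mul_inv_cancel_right]
  exact X_mem_U hm _

theorem T_one_eq_phi (y : Fˣ) : T 1 y = phi 6 (slH y) := by
  rw [phi_H, show co chevG2 (rt 6) i0 = 0 by decide, show co chevG2 (rt 6) i1 = 1 by decide, zpow_zero, zpow_one]

theorem good_of_upper {g k v u : GL chevG2.Idx F} {y : Fˣ} (hk : k ∈ chevG2.group F) (hv : v ∈ U Qn F)
    (hu : u ∈ U Pos F) (h1 : y = 1 → kap u = 0) (h2 : y ≠ 1 → kap u ≠ 0)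
    (e : k * g * k⁻¹ = v * T 1 y * u) : Good g := by
  obtain ⟨q, hq, hu'⟩ := exists_split_b hu
  refine ⟨k, hk, v, hv, q, hq, slH y * slU (kap u), ?_, ?_⟩
  · by_cases hy : y = 1
    · left
      rw [h1 hy, hy]
      refine Subtype.ext ?_
      simp [Matrix.SpecialLinearGroup.coe_mul, slH_val, slU_val, Matrix.mul_fin_two, Matrix.one_fin_two]
    · right
      have hyv : (y : F) ≠ 1 := fun e => hy (Units.ext e)
      refine ⟨Or.inl ?_, ?_⟩
      · simp [Matrix.SpecialLinearGroup.coe_mul, slH_val, slU_val, Matrix.mul_fin_two, h2 hy]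
      · simp [Matrix.SpecialLinearGroup.coe_mul, slH_val, slU_val, Matrix.mul_fin_two, Matrix.trace_fin_two]
        intro e
        field_simp at e
        exact hyv (sub_eq_zero.1 (mul_self_eq_zero.1 (by linear_combination e)))
  · rw [e, map_mul, ← T_one_eq_phi, phi_U]
    conv_lhs => rw [hu']
    simp only [mul_assoc]

/-! ### Cases -/

theorem exists_ne_two [Fintype F] (h3 : 3 ≤ Fintype.card F) (a b : F) : ∃ z : F, z ≠ a ∧ z ≠ b := by
  classical
  by_contra h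
  simp only [not_exists, not_and_or, not_not] at h
  have : (Finset.univ : Finset F) ⊆ {a, b} := fun z _ => by simpa using h z
  have := Finset.card_le_card this
  rw [Finset.card_univ] at this
  exact absurd (this.trans Finset.card_le_two) (by omega)

/-- X_{-a}(s) T u with s ≠ 0. -/
theorem good_A {s : F} (hs : s ≠ 0) (x y : Fˣ) {u : GL chevG2.Idx F} (hu : u ∈ U Pos F) :
    Good (X 4 s * T x y * u) := by
  -- make the first torus coordinate 1
  set f : Fˣ := x⁻¹ with hf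
  set t : F := ((f : F) - 1) / s
  have hft : (f : F) = 1 + t * s := by simp only [t]; field_simp; ring
  have e4 : X 7 t * X 4 s = X 4 (((f⁻¹ : Fˣ) : F) * s) * T f 1 * X 7 (((f⁻¹ : Fˣ) : F) * t) := by
    have := X_X_rev 7 t s f hft
    rwa [show Fin.rev (7 : Fin 12) = 4 by decide, show co chevG2 (rt 7) i0 = 1 by decide,
      show co chevG2 (rt 7) i1 = 0 by decide, zpow_one, zpow_zero] at this
  set s' := ((f⁻¹ : Fˣ) : F) * s
  set u' := X 7 ((((chi 7 x y)⁻¹ : Fˣ) : F) * (((f⁻¹ : Fˣ) : F) * t)) * u * X 7 (-t)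
  have hu' : u' ∈ U Pos F := mul_mem (mul_mem (X_mem_U (by decide) _) hu) (X_mem_U (by decide) _)
  have hs' : s' ≠ 0 := mul_ne_zero (Units.ne_zero _) hs
  refine Good.of_conj' (X_mem 7 t) (g' := X 4 s' * T 1 y * u') ?_ ?_
  · calc X 7 t * (X 4 s * T x y * u) * (X 7 t)⁻¹ = (X 7 t * X 4 s) * T x y * u * X 7 (-t) := by
          rw [X_inv]; group
      _ = X 4 s' * T f 1 * (X 7 (((f⁻¹ : Fˣ) : F) * t) * T x y) * u * X 7 (-t) := by rw [e4]; group
      _ = X 4 s' * (T f 1 * T x y) * u' := by rw [X_T 7]; simp only [u', mul_assoc]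
      _ = _ := by rw [T_mul, hf, inv_mul_cancel, one_mul]
  -- adjust the coordinate of b
  set c : F := (((chi 6 1 y)⁻¹ : Fˣ) : F) * (-s') ^ 3 with hc
  have hc0 : c ≠ 0 := mul_ne_zero (Units.ne_zero _) (pow_ne_zero _ (neg_ne_zero.2 hs'))
  classical
  set z : F := ((if y = 1 then 0 else 1) - kap u') / c
  set w := X 4 (-s') * X 10 z * X 4 s' with hw
  have ew : w = X 10 z * (X 9 (-s' * z) * (X 8 (-((-s') ^ 2 * z)) * (X 6 ((-s') ^ 3 * z) *
      X 11 (-((-s') ^ 3 * z ^ 2))))) := by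
    have := conj_X (F := F) 4 10 [(9, 1, 1, 1), (8, -1, 2, 1), (6, 1, 3, 1), (11, -1, 3, 2)] (by decide) (-s') z
    rw [neg_neg] at this
    rw [hw, this]
    simp [Fin.ofNat]
  have hwU : w ∈ U Pos F := by
    rw [ew]
    exact mul_mem (X_mem_U (by decide) _) (mul_mem (X_mem_U (by decide) _) (mul_mem (X_mem_U (by decide) _)
      (mul_mem (X_mem_U (by decide) _) (X_mem_U (by decide) _))))
  have hkw : kap w = (-s') ^ 3 * z := by
    have m : ∀ (n : Fin 12) (t : F), n ∈ Pos → X n t ∈ U Pos F := fun n t h => X_mem_U h t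
    rw [ew, kap_mul (m 10 _ (by decide)) (mul_mem (m 9 _ (by decide)) (mul_mem (m 8 _ (by decide))
        (mul_mem (m 6 _ (by decide)) (m 11 _ (by decide))))),
      kap_mul (m 9 _ (by decide)) (mul_mem (m 8 _ (by decide)) (mul_mem (m 6 _ (by decide)) (m 11 _ (by decide)))),
      kap_mul (m 8 _ (by decide)) (mul_mem (m 6 _ (by decide)) (m 11 _ (by decide))),
      kap_mul (m 6 _ (by decide)) (m 11 _ (by decide)), kap_X 10 (by decide), kap_X 9 (by decide),
      kap_X 8 (by decide), kap_X 6 (by decide), kap_X 11 (by decide)]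
    simp
  have hk : kap ((T 1 y)⁻¹ * w * T 1 y * u' * X 10 (-z)) = if y = 1 then 0 else 1 := by
    rw [kap_mul (mul_mem (T_conj_U' Pos 1 y hwU) hu') (X_mem_U (by decide) _),
      kap_mul (T_conj_U' Pos 1 y hwU) hu', kap_T_conj 1 y hwU, hkw, kap_X 10 (by decide), if_neg (by decide),
      ← mul_assoc, ← hc, add_zero]
    simp only [z]
    field_simp
    ring
  refine good_of_upper (X_mem 10 z) (X_mem_U (n := 4) (by decide) s')
    (u := (T 1 y)⁻¹ * w * T 1 y * u' * X 10 (-z)) (y := y)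
    (mul_mem (mul_mem (T_conj_U' Pos 1 y hwU) hu') (X_mem_U (by decide) _)) ?_ ?_ ?_
  · intro h; rw [hk, if_pos h]
  · intro h; rw [hk, if_neg h]; exact one_ne_zero
  · rw [X_inv, hw, ← X_inv 4 s']
    group

/-- X_{-a}(s) X_{-b}(r) T u with s, r ≠ 0. -/
theorem good_C {s r : F} (hs : s ≠ 0) (hr : r ≠ 0) (x y : Fˣ) {u : GL chevG2.Idx F} (hu : u ∈ U Pos F) :
    Good (X 4 s * X 5 r * T x y * u) := by
  set f : Fˣ := x⁻¹ with hf
  set t : F := ((f : F) - 1) / s
  have hft : (f : F) = 1 + t * s := by simp only [t]; field_simp; ring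
  have e4 : X 7 t * X 4 s = X 4 (((f⁻¹ : Fˣ) : F) * s) * T f 1 * X 7 (((f⁻¹ : Fˣ) : F) * t) := by
    have := X_X_rev 7 t s f hft
    rwa [show Fin.rev (7 : Fin 12) = 4 by decide, show co chevG2 (rt 7) i0 = 1 by decide,
      show co chevG2 (rt 7) i1 = 0 by decide, zpow_one, zpow_zero] at this
  set s' := ((f⁻¹ : Fˣ) : F) * s
  set r' := (chi 5 f 1 : F) * r
  set u' := X 7 ((((chi 7 x y)⁻¹ : Fˣ) : F) * (((f⁻¹ : Fˣ) : F) * t)) * u * X 7 (-t)
  have hu' : u' ∈ U Pos F := mul_mem (mul_mem (X_mem_U (by decide) _) hu) (X_mem_U (by decide) _)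
  have hs' : s' ≠ 0 := mul_ne_zero (Units.ne_zero _) hs
  have hr' : r' ≠ 0 := mul_ne_zero (Units.ne_zero _) hr
  refine Good.of_conj' (X_mem 7 t) (g' := X 4 s' * X 5 r' * T 1 y * u') ?_ ?_
  · calc X 7 t * (X 4 s * X 5 r * T x y * u) * (X 7 t)⁻¹
        = (X 7 t * X 4 s) * X 5 r * T x y * u * X 7 (-t) := by rw [X_inv]; group
      _ = X 4 s' * T f 1 * (X 7 (((f⁻¹ : Fˣ) : F) * t) * X 5 r) * T x y * u * X 7 (-t) := by rw [e4]; group
      _ = X 4 s' * (T f 1 * X 5 r) * (X 7 (((f⁻¹ : Fˣ) : F) * t) * T x y) * u * X 7 (-t) := by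
          rw [comm_X 7 5 (by decide)]; group
      _ = X 4 s' * X 5 r' * (T f 1 * T x y) * u' := by rw [T_X 5, X_T 7]; simp only [u', r', mul_assoc]
      _ = _ := by rw [T_mul, hf, inv_mul_cancel, one_mul]
  -- make the second torus coordinate 1
  clear_value u' r' s'
  clear hft e4
  set f2 : Fˣ := y⁻¹ with hf2
  set t2 : F := ((f2 : F) - 1) / r'
  have hft2 : (f2 : F) = 1 + t2 * r' := by simp only [t2]; field_simp; ring
  have e5 : X 6 t2 * X 5 r' = X 5 (((f2⁻¹ : Fˣ) : F) * r') * T 1 f2 * X 6 (((f2⁻¹ : Fˣ) : F) * t2) := by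
    have := X_X_rev 6 t2 r' f2 hft2
    rwa [show Fin.rev (6 : Fin 12) = 5 by decide, show co chevG2 (rt 6) i0 = 0 by decide,
      show co chevG2 (rt 6) i1 = 1 by decide, zpow_one, zpow_zero] at this
  set r2 := ((f2⁻¹ : Fˣ) : F) * r'
  set u2 := X 6 ((((chi 6 1 y)⁻¹ : Fˣ) : F) * (((f2⁻¹ : Fˣ) : F) * t2)) * u' * X 6 (-t2)
  have hu2 : u2 ∈ U Pos F := mul_mem (mul_mem (X_mem_U (by decide) _) hu') (X_mem_U (by decide) _)
  have hr2 : r2 ≠ 0 := mul_ne_zero (Units.ne_zero _) hr'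
  refine Good.of_conj' (X_mem 6 t2) (g' := X 4 s' * X 5 r2 * u2) ?_ ?_
  · calc X 6 t2 * (X 4 s' * X 5 r' * T 1 y * u') * (X 6 t2)⁻¹
        = (X 6 t2 * X 4 s') * X 5 r' * T 1 y * u' * X 6 (-t2) := by rw [X_inv]; group
      _ = X 4 s' * (X 6 t2 * X 5 r') * T 1 y * u' * X 6 (-t2) := by rw [comm_X 6 4 (by decide)]; group
      _ = X 4 s' * X 5 r2 * T 1 f2 * (X 6 (((f2⁻¹ : Fˣ) : F) * t2) * T 1 y) * u' * X 6 (-t2) := by
          rw [e5]; group
      _ = X 4 s' * X 5 r2 * (T 1 f2 * T 1 y) * u2 := by rw [X_T]; simp only [u2, mul_assoc]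
      _ = _ := by rw [T_mul, hf2, inv_mul_cancel, one_mul, T_one, mul_one]
  clear_value u2 r2
  -- conjugate by X_{3a+b}
  set z : F := (1 - kap u2) / (-s') ^ 3
  set w := X 4 (-s') * X 10 z * X 4 s' with hw
  have ew : w = X 10 z * (X 9 (-s' * z) * (X 8 (-((-s') ^ 2 * z)) * (X 6 ((-s') ^ 3 * z) *
      X 11 (-((-s') ^ 3 * z ^ 2))))) := by
    have := conj_X (F := F) 4 10 [(9, 1, 1, 1), (8, -1, 2, 1), (6, 1, 3, 1), (11, -1, 3, 2)] (by decide) (-s') z
    rw [neg_neg] at this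
    rw [hw, this]
    simp [Fin.ofNat]
  have hwU : w ∈ U Pos F := by
    rw [ew]
    exact mul_mem (X_mem_U (by decide) _) (mul_mem (X_mem_U (by decide) _) (mul_mem (X_mem_U (by decide) _)
      (mul_mem (X_mem_U (by decide) _) (X_mem_U (by decide) _))))
  have hkw : kap w = (-s') ^ 3 * z := by
    have m : ∀ (n : Fin 12) (t : F), n ∈ Pos → X n t ∈ U Pos F := fun n t h => X_mem_U h t
    rw [ew, kap_mul (m 10 _ (by decide)) (mul_mem (m 9 _ (by decide)) (mul_mem (m 8 _ (by decide))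
        (mul_mem (m 6 _ (by decide)) (m 11 _ (by decide))))),
      kap_mul (m 9 _ (by decide)) (mul_mem (m 8 _ (by decide)) (mul_mem (m 6 _ (by decide)) (m 11 _ (by decide)))),
      kap_mul (m 8 _ (by decide)) (mul_mem (m 6 _ (by decide)) (m 11 _ (by decide))),
      kap_mul (m 6 _ (by decide)) (m 11 _ (by decide)), kap_X 10 (by decide), kap_X 9 (by decide),
      kap_X 8 (by decide), kap_X 6 (by decide), kap_X 11 (by decide)]
    simp
  have hu3 : u2 * X 10 (-z) ∈ U Pos F := mul_mem hu2 (X_mem_U (by decide) _)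
  have hku3 : kap (u2 * X 10 (-z)) = kap u2 := by
    rw [kap_mul hu2 (X_mem_U (by decide) _), kap_X 10 (by decide), if_neg (by decide), add_zero]
  obtain ⟨qw, hqw, ew'⟩ := exists_split_b hwU
  obtain ⟨qu, hqu, eu'⟩ := exists_split_b hu3
  set L : Matrix.SpecialLinearGroup (Fin 2) F := slL r2 * slU (kap u2)
  refine ⟨X 10 z, X_mem _ _, X 4 s', X_mem_U (by decide) _, (phi 6 L)⁻¹ * qw * phi 6 L * qu,
    mul_mem ?_ hqu, slU (kap w) * L, Or.inr ⟨Or.inr (Or.inl ?_), ?_⟩, ?_⟩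
  · have := phi6_conj_U Qb (by decide) (by decide) L⁻¹ hqw
    rwa [map_inv, inv_inv] at this
  · simp [L, Matrix.SpecialLinearGroup.coe_mul, slU_val, slL_val, Matrix.mul_fin_two, hr2]
  · have hsum : kap w + kap u2 = 1 := by
      rw [hkw]; simp only [z]; field_simp; ring
    simp [L, Matrix.SpecialLinearGroup.coe_mul, slU_val, slL_val, Matrix.mul_fin_two, Matrix.trace_fin_two]
    intro e
    exact hr2 (by linear_combination e - r2 * hsum)
  · rw [X_inv]
    calc X 10 z * (X 4 s' * X 5 r2 * u2) * X 10 (-z)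
        = X 4 s' * w * X 5 r2 * (u2 * X 10 (-z)) := by rw [hw, ← X_inv 4 s']; group
      _ = X 4 s' * (X 6 (kap w) * qw) * X 5 r2 * (X 6 (kap u2) * qu) := by rw [← ew']; conv_rhs => rw [← hku3, ← eu']
      _ = _ := by
          have hL : phi 6 L = X 5 r2 * X 6 (kap u2) := by rw [map_mul, phi_L, phi_U]; rfl
          rw [map_mul, phi_U, hL]; group

/-- An element of U with zero b coordinate lies in the radical. -/
theorem mem_Qb_of_kap {u : GL chevG2.Idx F} (hu : u ∈ U Pos F) (h : kap u = 0) : u ∈ U Qb F := by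
  obtain ⟨q, hq, e⟩ := exists_split_b hu
  rw [e, h, X_zero, one_mul]
  exact hq

theorem good_B1 (x y : Fˣ) {α : F} (hα : α ≠ 0) {u₁ : GL chevG2.Idx F} (hu : u₁ ∈ U Qa F) :
    Good (T x y * X 7 α * u₁) := by
  obtain ⟨ε, hε0, hε⟩ := exists_nA_X (F := F) 7 4 (by decide)
  set x' : Fˣ := (chi 7 x y)⁻¹ ^ co chevG2 (rt 7) i0 * x
  set y' : Fˣ := (chi 7 x y)⁻¹ ^ co chevG2 (rt 7) i1 * y
  set s := (chi 4 x' y' : F) * (ε * α)
  refine Good.of_conj' (nn_mem 7) (g' := X 4 s * T x' y' * (nn 7 * u₁ * (nn 7)⁻¹)) ?_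
    (good_A (mul_ne_zero (Units.ne_zero _) (mul_ne_zero hε0 hα)) x' y'
      (U_mono (S := Qa) (by decide) (nA_conj_U (by decide) hu)))
  calc nn 7 * (T x y * X 7 α * u₁) * (nn 7)⁻¹ = (nn 7 * T x y) * X 7 α * u₁ * (nn 7)⁻¹ := by group
    _ = T x' y' * (nn 7 * X 7 α) * u₁ * (nn 7)⁻¹ := by rw [nn_T, T_mul]; simp only [x', y', mul_assoc]
    _ = (T x' y' * X 4 (ε * α)) * (nn 7 * u₁ * (nn 7)⁻¹) := by rw [hε]; group
    _ = _ := by rw [T_X]

theorem good_B2 (x y : Fˣ) (h : chi 7 x y ≠ 1) {u : GL chevG2.Idx F} (hu : u ∈ U Pos F) :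
    Good (T x y * u) := by
  obtain ⟨α, u₁, hu₁, rfl⟩ := exists_split 7 (S := Qa) (T' := Pos) (by decide) (by decide) hu
  rcases ne_or_eq α 0 with hα | rfl
  · rw [← mul_assoc]; exact good_B1 x y hα hu₁
  set a : F := (((chi 7 x y)⁻¹ : Fˣ) : F) - 1
  have ha : a ≠ 0 := fun e => h (inv_eq_one.1 (Units.ext (sub_eq_zero.1 e)))
  refine Good.of_conj' (X_mem 7 1) (g' := T x y * X 7 a * (X 7 1 * u₁ * X 7 (-1))) ?_
    (good_B1 x y ha (conj_U (by decide) 1 hu₁))
  calc X 7 1 * (T x y * (X 7 0 * u₁)) * (X 7 1)⁻¹ = (X 7 1 * T x y) * u₁ * X 7 (-1) := by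
        rw [X_zero, one_mul, X_inv]; group
    _ = T x y * (X 7 (((chi 7 x y)⁻¹ : Fˣ) : F)) * u₁ * X 7 (-1) := by rw [X_T, mul_one]
    _ = T x y * (X 7 a * X 7 1) * u₁ * X 7 (-1) := by rw [X_add]; simp [a]
    _ = _ := by group

theorem chi7_eq (x y : Fˣ) : chi 7 x y = x ^ (2 : ℤ) * y⁻¹ := by
  rw [chi, show A chevG2 i0 (rt 7) = 2 by decide, show A chevG2 i1 (rt 7) = -1 by decide, zpow_neg_one]

theorem chi6_eq (x y : Fˣ) : chi 6 x y = (x ^ (3 : ℤ))⁻¹ * y ^ (2 : ℤ) := by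
  rw [chi, show A chevG2 i0 (rt 6) = -3 by decide, show A chevG2 i1 (rt 6) = 2 by decide, zpow_neg]

variable [Fintype F] (h3 : 3 ≤ Fintype.card F)
include h3

theorem good_Q {g : GL chevG2.Idx F} (hg : g ∈ U Qa F) : Good g := by
  rcases eq_or_ne (kap g) 0 with h0 | h0
  · refine good_of_upper (one_mem _) (one_mem _) (y := 1) (U_mono (S := Qa) (by decide) hg) (fun _ => h0)
      (fun h => absurd rfl h) ?_
    simp [T_one]
  obtain ⟨β, q, hq, rfl⟩ := exists_split 6 (S := {8, 9, 10, 11}) (T' := Qa) (by decide) (by decide) hg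
  obtain ⟨γ8, q9, hq9, rfl⟩ := exists_split 8 (S := {9, 10, 11}) (T' := {8, 9, 10, 11}) (by decide) (by decide) hq
  have hβ : β ≠ 0 := by
    intro e
    apply h0
    rw [e, X_zero, one_mul]
    exact kap_zero (S := {8, 9, 10, 11}) (by decide) hq
  -- remove the coordinate of a+b
  set t := γ8 / β
  have e6 := conj_X (F := F) 7 6 [(8, -1, 1, 1), (9, 1, 2, 1), (10, 1, 3, 1), (11, 1, 3, 2)] (by decide) t β
  have e8 := conj_X (F := F) 7 8 [(9, -2, 1, 1), (10, -3, 2, 1), (11, 3, 1, 2)] (by decide) t γ8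
  simp [Fin.ofNat] at e6 e8
  set a := X 9 (t ^ 2 * β) * (X 10 (t ^ 3 * β) * X 11 (t ^ 3 * β ^ 2))
  have ha : a ∈ U {9, 10, 11} F :=
    mul_mem (X_mem_U (by decide) _) (mul_mem (X_mem_U (by decide) _) (X_mem_U (by decide) _))
  set b := X 7 t * X 8 γ8 * X 7 (-t) with hb
  have hb' : X 8 (-γ8) * b ∈ U {9, 10, 11} F := by
    rw [e8, ← mul_assoc, X_add, neg_add_cancel, X_zero, one_mul]
    exact mul_mem (X_mem_U (by decide) _) (mul_mem (X_mem_U (by decide) _) (X_mem_U (by decide) _))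
  set q' := X 8 (-γ8) * a * X 8 γ8 * (X 8 (-γ8) * b) * (X 7 t * q9 * X 7 (-t))
  have hq' : q' ∈ U {9, 10, 11} F := by
    refine mul_mem (mul_mem ?_ hb') (conj_U (by decide) t hq9)
    have := conj_U (r := 8) (S := {9, 10, 11}) (by decide) (-γ8) ha
    rwa [neg_neg] at this
  refine Good.of_conj' (X_mem 7 t) (g' := X 6 β * q') ?_ ?_
  · have ht : -(t * β) + γ8 = 0 := by simp only [t]; field_simp; ring
    calc X 7 t * (X 6 β * (X 8 γ8 * q9)) * (X 7 t)⁻¹
        = (X 7 t * X 6 β * X 7 (-t)) * b * (X 7 t * q9 * X 7 (-t)) := by rw [hb, X_inv, ← X_inv 7 t]; group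
      _ = X 6 β * (X 8 (-(t * β)) * a) * b * (X 7 t * q9 * X 7 (-t)) := by rw [e6]
      _ = X 6 β * (X 8 (-(t * β)) * X 8 γ8) * q' := by
          simp only [q', ← X_inv 8 γ8]; group
      _ = _ := by rw [X_add, ht, X_zero, mul_one]
  clear_value q'
  obtain ⟨γ, q10, hq10, rfl⟩ := exists_split 9 (S := {10, 11}) (T' := {9, 10, 11}) (by decide) (by decide) hq'
  obtain ⟨δ, q11, hq11, rfl⟩ := exists_split 10 (S := {11}) (T' := {10, 11}) (by decide) (by decide) hq10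
  obtain ⟨ε, q0, hq0, rfl⟩ := exists_split 11 (S := ∅) (T' := {11}) (by decide) (by decide) hq11
  have hq01 : q0 = 1 := Subgroup.mem_bot.1 ((U_le (M := ⊥) (fun n hn => absurd hn (Finset.notMem_empty n))) hq0)
  subst hq01
  -- remove the coordinate of 3a+2b
  set z := ε / β
  refine Good.of_conj' (X_mem 10 z) (g' := X 6 β * (X 9 γ * X 10 δ)) ?_ ?_
  · have e10 := conj_X (F := F) 10 6 [(11, -1, 1, 1)] (by decide) z β
    simp [Fin.ofNat] at e10
    have hz : -(z * β) + ε = 0 := by simp only [z]; field_simp; ring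
    calc X 10 z * (X 6 β * (X 9 γ * (X 10 δ * (X 11 ε * 1)))) * (X 10 z)⁻¹
        = (X 10 z * X 6 β * X 10 (-z)) * ((X 10 z * X 9 γ) * X 10 δ * (X 11 ε * X 10 (-z))) := by
          rw [X_inv, ← X_inv 10 z]; group
      _ = X 6 β * X 11 (-(z * β)) * (X 9 γ * (X 10 z * X 10 δ) * (X 10 (-z) * X 11 ε)) := by
          rw [e10, comm_X 10 9 (by decide), comm_X 11 10 (by decide)]; group
      _ = X 6 β * X 11 (-(z * β)) * (X 9 γ * (X 10 δ * X 11 ε)) := by
          rw [X_add, mul_assoc (X 9 γ) (X 10 (z + δ)), ← mul_assoc (X 10 (z + δ)), X_add,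
            show z + δ + -z = δ by ring]
      _ = X 6 β * (X 9 γ * (X 10 δ * (X 11 (-(z * β)) * X 11 ε))) := by
          rw [mul_assoc (X 6 β), ← mul_assoc (X 11 (-(z * β))) (X 9 γ), comm_X 11 9 (by decide),
            mul_assoc (X 9 γ), ← mul_assoc (X 11 (-(z * β))) (X 10 δ), comm_X 11 10 (by decide)]
          group
      _ = _ := by rw [X_add, hz, X_zero, mul_one]
  rcases eq_or_ne δ 0 with rfl | hδ
  · -- move b to 3a+b
    obtain ⟨e1, -, h1⟩ := exists_nA_X (F := F) 6 10 (by decide)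
    obtain ⟨e2, -, h2⟩ := exists_nA_X (F := F) 9 8 (by decide)
    refine good_of_upper (nn_mem 7) (one_mem _) (y := 1) (u := X 10 (e1 * β) * X 8 (e2 * γ))
      (mul_mem (X_mem_U (by decide) _) (X_mem_U (by decide) _)) (fun _ => ?_) (fun h => absurd rfl h) ?_
    · rw [kap_mul (X_mem_U (by decide) _) (X_mem_U (by decide) _), kap_X 10 (by decide), kap_X 8 (by decide)]
      simp
    · rw [X_zero, mul_one, T_one, one_mul, one_mul, ← mul_assoc, h1, mul_assoc (X 10 _), h2]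
      group
  -- now conjugate by X_{-b}(1) and by X_{-a}(z)
  set A0 : Matrix.SpecialLinearGroup (Fin 2) F := slL 1 * slU β * slL (-1)
  have hA0 : phi 6 A0 = X 5 1 * X 6 β * X 5 (-1) := by
    simp only [A0, map_mul, phi_L, phi_U]; rfl
  refine Good.of_conj' (X_mem 5 1) (g' := phi 6 A0 * (X 9 γ * X 10 δ)) ?_ ?_
  · rw [hA0, X_inv]
    calc X 5 1 * (X 6 β * (X 9 γ * X 10 δ)) * X 5 (-1)
        = X 5 1 * X 6 β * (X 9 γ * (X 10 δ * X 5 (-1))) := by group
      _ = _ := by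
          rw [← comm_X 5 10 (by decide), ← mul_assoc (X 9 γ), ← comm_X 5 9 (by decide)]
          group
  obtain ⟨z, hz0, hz⟩ := exists_ne_two h3 0 (-(3 * γ) / δ)
  set w := X 4 z * (X 9 γ * X 10 δ) * X 4 (-z) with hw
  have e9 := conj_X (F := F) 4 9 [(8, -2, 1, 1), (6, 3, 2, 1), (11, -3, 1, 2)] (by decide) z γ
  have e10 := conj_X (F := F) 4 10 [(9, 1, 1, 1), (8, -1, 2, 1), (6, 1, 3, 1), (11, -1, 3, 2)] (by decide) z δ
  simp [Fin.ofNat] at e9 e10
  have ew : w = (X 4 z * X 9 γ * X 4 (-z)) * (X 4 z * X 10 δ * X 4 (-z)) := by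
    rw [hw, ← X_inv 4 z]; group
  rw [e9, e10] at ew
  have m : ∀ (n : Fin 12) (t : F), n ∈ Pos → X n t ∈ U Pos F := fun n t h => X_mem_U h t
  have hwU : w ∈ U Pos F := by
    rw [ew]
    refine mul_mem ?_ ?_ <;> repeat' (first | exact m _ _ (by decide) | refine mul_mem ?_ ?_)
  have hkw : kap w = z ^ 2 * (3 * γ + δ * z) := by
    rw [ew, kap_mul (mul_mem (m 9 _ (by decide)) (mul_mem (m 8 _ (by decide)) (mul_mem (m 6 _ (by decide))
        (m 11 _ (by decide))))) (mul_mem (m 10 _ (by decide)) (mul_mem (m 9 _ (by decide))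
        (mul_mem (m 8 _ (by decide)) (mul_mem (m 6 _ (by decide)) (m 11 _ (by decide)))))),
      kap_mul (m 9 _ (by decide)) (mul_mem (m 8 _ (by decide)) (mul_mem (m 6 _ (by decide)) (m 11 _ (by decide)))),
      kap_mul (m 8 _ (by decide)) (mul_mem (m 6 _ (by decide)) (m 11 _ (by decide))),
      kap_mul (m 6 _ (by decide)) (m 11 _ (by decide)),
      kap_mul (m 10 _ (by decide)) (mul_mem (m 9 _ (by decide)) (mul_mem (m 8 _ (by decide))
        (mul_mem (m 6 _ (by decide)) (m 11 _ (by decide))))),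
      kap_mul (m 9 _ (by decide)) (mul_mem (m 8 _ (by decide)) (mul_mem (m 6 _ (by decide)) (m 11 _ (by decide)))),
      kap_mul (m 8 _ (by decide)) (mul_mem (m 6 _ (by decide)) (m 11 _ (by decide))),
      kap_mul (m 6 _ (by decide)) (m 11 _ (by decide)), kap_X 10 (by decide), kap_X 9 (by decide),
      kap_X 8 (by decide), kap_X 6 (by decide), kap_X 11 (by decide)]
    simp [kap_X 9 (show (9 : Fin 12) ∈ Pos by decide), kap_X 8 (show (8 : Fin 12) ∈ Pos by decide),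
      kap_X 6 (show (6 : Fin 12) ∈ Pos by decide), kap_X 11 (show (11 : Fin 12) ∈ Pos by decide)]
    ring
  have hκ : kap w ≠ 0 := by
    rw [hkw]
    refine mul_ne_zero (pow_ne_zero _ hz0) fun e => hz ?_
    rw [eq_div_iff hδ]
    linear_combination e
  obtain ⟨qw, hqw, ew'⟩ := exists_split_b hwU
  refine ⟨X 4 z, X_mem _ _, X 4 z * (phi 6 A0 * X 4 (-z) * (phi 6 A0)⁻¹),
    mul_mem (X_mem_U (by decide) _) (phi6_conj_U Qn (by decide) (by decide) _ (X_mem_U (by decide) _)),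
    qw, hqw, A0 * slU (kap w), Or.inr ⟨Or.inr (Or.inl ?_), ?_⟩, ?_⟩
  · simp [A0, Matrix.SpecialLinearGroup.coe_mul, slU_val, slL_val, Matrix.mul_fin_two, hβ]
  · simp [A0, Matrix.SpecialLinearGroup.coe_mul, slU_val, slL_val, Matrix.mul_fin_two, Matrix.trace_fin_two]
    intro e
    exact mul_ne_zero hβ hκ (by linear_combination -e)
  · rw [map_mul (phi 6) A0, phi_U, X_inv]
    calc X 4 z * (phi 6 A0 * (X 9 γ * X 10 δ)) * X 4 (-z)
        = X 4 z * (phi 6 A0 * X 4 (-z) * (phi 6 A0)⁻¹) * phi 6 A0 * w := by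
          rw [hw, ← X_inv 4 z]; group
      _ = _ := by conv_lhs => rw [ew']
                  group

theorem good_B (x y : Fˣ) {u : GL chevG2.Idx F} (hu : u ∈ U Pos F) : Good (T x y * u) := by
  by_cases h : chi 7 x y = 1
  swap; · exact good_B2 x y h hu
  obtain ⟨α, u₁, hu₁, rfl⟩ := exists_split 7 (S := Qa) (T' := Pos) (by decide) (by decide) hu
  rcases ne_or_eq α 0 with hα | rfl
  · rw [← mul_assoc]; exact good_B1 x y hα hu₁
  rw [X_zero, one_mul]
  have hy : y = x * x := by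
    rw [chi7_eq, mul_inv_eq_one, zpow_two] at h
    exact h.symm
  subst hy
  have hc : chi 6 x (x * x) = x := by
    rw [chi6_eq, mul_zpow, ← zpow_neg, ← zpow_add, ← zpow_add]
    norm_num
  by_cases hx : x = 1
  · subst hx
    rw [one_mul, T_one, one_mul]
    exact good_Q h3 hu₁
  have hu1P : u₁ ∈ U Pos F := U_mono (S := Qa) (by decide) hu₁
  set a : F := (((chi 6 x (x * x))⁻¹ : Fˣ) : F) - 1 with ha_def
  have ha : a ≠ 0 := by
    rw [ha_def, hc]
    exact fun e => hx (inv_eq_one.1 (Units.ext (sub_eq_zero.1 e)))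
  set t := -(kap u₁) / a
  set q := X 6 ((((chi 6 x (x * x))⁻¹ : Fˣ) : F) * t) * u₁ * X 6 (-t)
  have hqP : q ∈ U Pos F := mul_mem (mul_mem (X_mem_U (by decide) _) hu1P) (X_mem_U (by decide) _)
  have hq0 : q ∈ U Qb F := by
    refine mem_Qb_of_kap hqP ?_
    rw [kap_mul (mul_mem (X_mem_U (by decide) _) hu1P) (X_mem_U (by decide) _),
      kap_mul (X_mem_U (by decide) _) hu1P, kap_X 6 (by decide), kap_X 6 (by decide), if_pos rfl, if_pos rfl]
    have : t * a = -kap u₁ := by simp only [t]; field_simp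
    linear_combination this + t * ha_def
  refine Good.of_conj' (X_mem 6 t) (g' := T x (x * x) * q) ?_ ?_
  · rw [X_inv, ← mul_assoc, X_T]; simp only [q, mul_assoc]
  set x' : Fˣ := (chi 6 x (x * x))⁻¹ ^ co chevG2 (rt 6) i0 * x with hx'
  set y' : Fˣ := (chi 6 x (x * x))⁻¹ ^ co chevG2 (rt 6) i1 * (x * x) with hy'
  refine Good.of_conj' (nn_mem 6) (g' := T x' y' * (nn 6 * q * (nn 6)⁻¹)) ?_
    (good_B2 x' y' ?_ (U_mono (S := Qb) (by decide) (nB_conj_U (by decide) hq0)))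
  · rw [← mul_assoc, nn_T, T_mul]; simp only [x', y', mul_assoc]
  · rw [hx', hy', hc, show co chevG2 (rt 6) i0 = 0 by decide, show co chevG2 (rt 6) i1 = 1 by decide,
      zpow_zero, one_mul, zpow_one, inv_mul_cancel_left, chi7_eq, zpow_two, mul_inv_cancel_right]
    exact hx

theorem good_D (N : GL (Fin 2) F) {q : GL chevG2.Idx F} (hq : q ∈ U Qb F) : Good (psi N * q) := by
  have conjN : ∀ (S M : GL (Fin 2) F), S * N * S⁻¹ = M →
      (∀ q' ∈ U Qb F, Good (psi M * q')) → Good (psi N * q) := by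
    intro S M e h
    refine Good.of_conj' (psi_mem S) ?_ (h _ (psi_conj_U Qb (by decide) (by decide) S hq))
    rw [← e, map_mul, map_mul, map_inv]; group
  by_cases hroot : ∃ r : F, r * r - N.1.trace * r + N.1.det = 0
  · obtain ⟨r, hr⟩ := hroot
    -- upper triangular case
    suffices h : ∀ (a d : Fˣ) (b : F) (S : GL (Fin 2) F),
        S * N * S⁻¹ = dg a d * Matrix.SpecialLinearGroup.toGL (slU b) → Good (psi N * q) by
      have hd : N.1.det ≠ 0 := Matrix.GeneralLinearGroup.det_ne_zero N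
      by_cases h10 : N.1 1 0 = 0
      · have h00 : N.1 0 0 ≠ 0 := fun e => hd (by rw [Matrix.det_fin_two, e, h10]; ring)
        have h11 : N.1 1 1 ≠ 0 := fun e => hd (by rw [Matrix.det_fin_two, e, h10]; ring)
        refine h (Units.mk0 _ h00) (Units.mk0 _ h11) (N.1 0 1 / N.1 0 0) 1 (Units.ext ?_)
        rw [one_mul, inv_one, mul_one]
        ext i j
        fin_cases i <;> fin_cases j <;> simp [dg, Matrix.mul_fin_two, h10]
        field_simp
      · have hr0 : r ≠ 0 := fun e => hd (by rw [e] at hr; linear_combination hr)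
        have hd0 : N.1.trace - r ≠ 0 := fun e => hd (by linear_combination hr + r * e)
        let P : Matrix (Fin 2) (Fin 2) F := !![r - N.1 1 1, 1; N.1 1 0, 0]
        have hP : P.det ≠ 0 := by simpa [P, Matrix.det_fin_two_of] using h10
        obtain ⟨S, hS⟩ := Cfsg.Agent.Lib.PSp4Class.exists_GL hP
        refine h (Units.mk0 r hr0) (Units.mk0 _ hd0) (1 / r) S⁻¹ ?_
        rw [inv_inv, mul_assoc, inv_mul_eq_iff_eq_mul]
        refine Units.ext ?_
        rw [Units.val_mul, Units.val_mul, Units.val_mul, hS]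
        rw [Matrix.trace_fin_two, Matrix.det_fin_two] at hr
        ext i j
        fin_cases i <;> fin_cases j <;>
          simp [P, dg, Matrix.mul_apply, Fin.sum_univ_two, Matrix.trace_fin_two, hr0]
        all_goals (try field_simp)
        all_goals first | linear_combination -hr | linear_combination hr | ring
    intro a d b S e
    refine conjN S _ e fun q' hq' => ?_
    rw [map_mul, psi_dg, psi_of_sl, phi_U, mul_assoc]
    exact good_B h3 _ _ (mul_mem (X_mem_U (by decide) _) (U_mono (S := Qb) (by decide) hq'))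
  simp only [not_exists] at hroot
  set δ := Matrix.GeneralLinearGroup.det N with hδdef
  by_cases hδ : δ = 1
  · -- determinant one
    have hs : psi N = phi 6 (slPart N) := by
      show phi 6 _ * T _ _ = _
      rw [← hδdef, hδ, T_one, mul_one]
    have hval : (slPart N).1 = N.1 := by
      show N.1 * !![1, 0; 0, N.1.det⁻¹] = N.1
      have : N.1.det = 1 := by simpa [hδdef] using congrArg Units.val hδ
      rw [this, inv_one, ← Matrix.one_fin_two, mul_one]
    refine ⟨1, one_mem _, 1, one_mem _, q, hq, slPart N, Or.inr ?_, by simp [hs]⟩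
    rw [hval]
    refine ⟨nonScalar_of_irred hroot, fun e => hroot 1 ?_⟩
    have : N.1.det = 1 := by simpa [hδdef] using congrArg Units.val hδ
    rw [e, this]; ring
  -- bring into the shape X_{-b}(1) T(δ,δ) X_b(β)
  set β := N.1.trace - 1 - (δ : F) with hβdef
  have hdet : (δ : F) = N.1.det := by simp [hδdef]
  have hβ : β ≠ 0 := fun e => hroot 1 (by rw [← hdet]; linear_combination -e - hβdef)
  set M : GL (Fin 2) F := Matrix.SpecialLinearGroup.toGL (slL 1) * dg 1 δ *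
    Matrix.SpecialLinearGroup.toGL (slU β)
  have hMv : M.1 = !![1, β; 1, β + (δ : F)] := by
    show (slL (1 : F)).1 * !![((1 : Fˣ) : F), 0; 0, (δ : F)] * (slU β).1 = _
    simp [Matrix.mul_fin_two]
  have hM1 : NonScalar M.1 := Or.inl (by rw [hMv]; simpa using hβ)
  have hM2 : M.1.trace = N.1.trace := by rw [hMv, Matrix.trace_fin_two_of, hβdef]; ring
  have hM3 : M.1.det = N.1.det := by rw [hMv, Matrix.det_fin_two_of, ← hdet]; ring
  obtain ⟨S, hS⟩ := exists_similar hM1 (nonScalar_of_irred hroot) hM2 hM3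
  refine conjN S M hS.symm fun q' hq' => ?_
  have hM : psi M = X 5 1 * T δ δ * X 6 β := by
    simp only [M, map_mul, psi_of_sl, phi_L, phi_U, psi_dg, one_mul]; rfl
  rw [hM]
  obtain ⟨α, q8, hq8, rfl⟩ := exists_split 7 (S := {8, 9, 10, 11}) (T' := Qb) (by decide) (by decide) hq'
  obtain ⟨e1, -, h1⟩ := exists_nA_X (F := F) 5 1 (by decide)
  obtain ⟨e6, -, h6⟩ := exists_nA_X (F := F) 6 10 (by decide)
  obtain ⟨e7, -, h7⟩ := exists_nA_X (F := F) 7 4 (by decide)
  obtain ⟨e10, he10, h10⟩ := exists_nA_X (F := F) 10 6 (by decide)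
  obtain ⟨e11, -, h11⟩ := exists_nA_X (F := F) 11 11 (by decide)
  set W := nn 7 * q8 * (nn 7)⁻¹
  have hW : W ∈ U Qa F := nA_conj_U (by decide) hq8
  set α' := e7 * α
  set β' := e6 * β
  set w1 := X 4 (-α') * X 10 β' * X 4 α' with hw1
  have hw1U : w1 ∈ U Pos F := by
    have := conj_X (F := F) 4 10 [(9, 1, 1, 1), (8, -1, 2, 1), (6, 1, 3, 1), (11, -1, 3, 2)] (by decide) (-α') β'
    rw [neg_neg] at this
    rw [hw1, this]
    simp [Fin.ofNat]
    repeat' (first | exact X_mem_U (by decide) _ | refine mul_mem ?_ ?_)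
  set c := (((chi 10 δ δ)⁻¹ : Fˣ) : F)
  have hc : e10 * c ≠ 0 := mul_ne_zero he10 (Units.ne_zero _)
  set z := -(1 - kap w1 - kap W) / (e10 * c)
  set b10 := c * -z
  set a11 := (((chi 11 δ δ)⁻¹ : Fˣ) : F) * z
  -- conjugate by X_{3a+2b}(z)
  set q2 := X 11 a11 * X 11 (-(b10 * β)) * X 10 b10 * q8 * X 11 (-z)
  refine Good.of_conj' (X_mem 11 z) (g' := X 5 1 * T δ δ * X 6 β * X 7 α * q2) ?_ ?_
  · have e := conj_X (F := F) 5 11 [(10, 1, 1, 1)] (by decide) (-1) z
    simp [Fin.ofNat] at e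
    have e' := conj_X (F := F) 10 6 [(11, -1, 1, 1)] (by decide) b10 β
    simp [Fin.ofNat] at e'
    calc X 11 z * (X 5 1 * T δ δ * X 6 β * (X 7 α * q8)) * (X 11 z)⁻¹
        = X 5 1 * (X 5 (-1) * X 11 z * X 5 1) * T δ δ * X 6 β * X 7 α * q8 * X 11 (-z) := by
          rw [X_inv, ← X_inv 5 1]; group
      _ = X 5 1 * (X 11 z * (X 10 (-z) * T δ δ)) * X 6 β * X 7 α * q8 * X 11 (-z) := by rw [e]; group
      _ = X 5 1 * ((X 11 z * T δ δ) * X 10 b10) * X 6 β * X 7 α * q8 * X 11 (-z) := by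
          rw [X_T 10]; simp only [b10, c, mul_assoc]
      _ = X 5 1 * T δ δ * (X 11 a11 * (X 10 b10 * X 6 β * X 10 (-b10)) * X 10 b10) * X 7 α * q8 * X 11 (-z) := by
          rw [X_T 11, ← X_inv 10 b10]; simp only [a11, mul_assoc, inv_mul_cancel, mul_one]
      _ = X 5 1 * T δ δ * (X 11 a11 * X 6 β) * (X 11 (-(b10 * β)) * X 10 b10) * X 7 α * q8 * X 11 (-z) := by
          rw [e']; simp only [mul_assoc]
      _ = X 5 1 * T δ δ * X 6 β * (X 11 a11 * X 11 (-(b10 * β)) * X 10 b10 * X 7 α) * q8 * X 11 (-z) := by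
          rw [comm_X 11 6 (by decide)]; simp only [mul_assoc]
      _ = X 5 1 * T δ δ * X 6 β * (X 7 α * (X 11 a11 * X 11 (-(b10 * β)) * X 10 b10)) * q8 * X 11 (-z) := by
          have c1 : X 10 b10 * X 7 α = X 7 α * X 10 b10 := (comm_X 7 10 (by decide) α b10).symm
          have c2 : ∀ t : F, X 11 t * X 7 α = X 7 α * X 11 t := fun t => (comm_X 7 11 (by decide) α t).symm
          congr 3
          rw [mul_assoc _ (X 10 b10), c1, ← mul_assoc, mul_assoc (X 11 a11), c2, ← mul_assoc, c2]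
          simp only [mul_assoc]
      _ = _ := by simp only [q2, mul_assoc]
  -- apply n_a
  have hT : nn 7 * T δ δ = T 1 δ * nn 7 := by
    rw [nn_T, show co chevG2 (rt 7) i0 = 1 by decide, show co chevG2 (rt 7) i1 = 0 by decide, zpow_one,
      zpow_zero, T_mul, chi7_eq, zpow_two, mul_inv_cancel_right, inv_mul_cancel, one_mul]
  set W2 := nn 7 * q2 * (nn 7)⁻¹ with hW2
  have eW2 : W2 = X 11 (e11 * a11) * X 11 (e11 * -(b10 * β)) * X 6 (e10 * b10) * W * X 11 (e11 * -z) := by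
    have g10 : ∀ t : F, nn 7 * X 10 t * (nn 7)⁻¹ = X 6 (e10 * t) := fun t => by rw [h10, mul_inv_cancel_right]
    have g11 : ∀ t : F, nn 7 * X 11 t * (nn 7)⁻¹ = X 11 (e11 * t) := fun t => by rw [h11, mul_inv_cancel_right]
    rw [← g11, ← g11, ← g10, ← g11, hW2]
    simp only [q2, W]
    group
  have hWP : W ∈ U Pos F := U_mono (S := Qa) (by decide) hW
  have m : ∀ (n : Fin 12) (t : F), n ∈ Pos → X n t ∈ U Pos F := fun n t h => X_mem_U h t
  have hW2P : W2 ∈ U Pos F := by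
    rw [eW2]
    exact mul_mem (mul_mem (mul_mem (mul_mem (m 11 _ (by decide)) (m 11 _ (by decide))) (m 6 _ (by decide))) hWP)
      (m 11 _ (by decide))
  have hk : kap (w1 * W2) = 1 := by
    rw [kap_mul hw1U hW2P, eW2,
      kap_mul (mul_mem (mul_mem (mul_mem (m 11 _ (by decide)) (m 11 _ (by decide))) (m 6 _ (by decide))) hWP)
        (m 11 _ (by decide)),
      kap_mul (mul_mem (mul_mem (m 11 _ (by decide)) (m 11 _ (by decide))) (m 6 _ (by decide))) hWP,
      kap_mul (mul_mem (m 11 _ (by decide)) (m 11 _ (by decide))) (m 6 _ (by decide)),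
      kap_mul (m 11 _ (by decide)) (m 11 _ (by decide)), kap_X 6 (by decide), kap_X 11 (by decide),
      kap_X 11 (by decide), kap_X 11 (by decide)]
    have hc' : c ≠ 0 := Units.ne_zero _
    simp only [b10, z]
    simp
    field_simp
    ring
  refine good_of_upper (nn_mem 7) (v := X 1 e1 * X 4 ((chi 4 1 δ : F) * α'))
    (mul_mem (X_mem_U (by decide) _) (X_mem_U (by decide) _)) (u := w1 * W2) (y := δ) (mul_mem hw1U hW2P)
    (fun h => absurd h hδ) (fun _ => by rw [hk]; exact one_ne_zero) ?_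
  calc nn 7 * (X 5 1 * T δ δ * X 6 β * X 7 α * q2) * (nn 7)⁻¹
      = X 1 (e1 * 1) * (nn 7 * T δ δ) * X 6 β * X 7 α * q2 * (nn 7)⁻¹ := by rw [← mul_assoc (nn 7), ← mul_assoc (nn 7), ← mul_assoc (nn 7), ← mul_assoc (nn 7), h1]; group
    _ = X 1 e1 * T 1 δ * (nn 7 * X 6 β) * X 7 α * q2 * (nn 7)⁻¹ := by rw [hT, mul_one]; group
    _ = X 1 e1 * T 1 δ * X 10 β' * (nn 7 * X 7 α) * q2 * (nn 7)⁻¹ := by rw [h6]; simp only [β', mul_assoc]
    _ = X 1 e1 * T 1 δ * X 10 β' * X 4 α' * W2 := by rw [h7, hW2]; simp only [α', mul_assoc]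
    _ = X 1 e1 * (T 1 δ * X 4 α') * w1 * W2 := by rw [hw1, ← X_inv 4 α']; group
    _ = _ := by rw [T_X]; group

theorem good_par_b {g : GL chevG2.Idx F} (hg : g ∈ par i1) : Good g := by
  by_cases hB : g ∈ chevG2.borelSubgroup F
  · obtain ⟨x, y, u, hu, rfl⟩ := mem_borel hB
    exact good_B h3 x y hu
  obtain ⟨t, b, hb, rfl⟩ := par_cases hg hB
  have hP : (C.P F i1 : GL chevG2.Idx F) = nn 6 := by rw [Core.P, p_i1, nn]
  rw [p_i1, hP]
  have hb' : b * X 6 t ∈ chevG2.borelSubgroup F :=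
    mul_mem hb (C.posUS_le_borel (by rw [← U_pos]; exact X_mem_U (by decide) t))
  obtain ⟨x, y, u, hu, e⟩ := mem_borel hb'
  obtain ⟨q, hq, eu⟩ := exists_split_b hu
  refine Good.of_conj' (X_mem 6 (-t)) (g' := nn 6 * (T x y * u)) ?_ ?_
  · rw [X_inv, neg_neg, ← e]
    show X 6 (-t) * (X 6 t * nn 6 * b) * X 6 t = _
    rw [← X_inv]; group
  have h := good_D h3 (Matrix.SpecialLinearGroup.toGL (slN (1 : Fˣ)) * dg (y / x) (x * x / y) *
    Matrix.SpecialLinearGroup.toGL (slU (kap u))) hq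
  rw [map_mul, map_mul, psi_of_sl, psi_of_sl, psi_dg, phi_N, phi_U] at h
  have e1 : y / x * (x * x / y) = x := by simp [div_eq_mul_inv, mul_comm, mul_left_comm]
  have e2 : y / x * (y / x) * (x * x / y) = y := by simp [div_eq_mul_inv, mul_comm, mul_left_comm]
  rw [e1, e2] at h
  rw [eu, ← mul_assoc, ← mul_assoc]
  exact h

/-- Every element of the group is good. -/
theorem good_all {g : GL chevG2.Idx F} (hg : g ∈ chevG2.group F) : Good g := by
  obtain ⟨k, hk, p₁, h₁, p₂, h₂, e⟩ := exists_conj_par hg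
  refine Good.of_conj' hk e ?_
  have hbp := borel_le_par (F := F) i1
  by_cases hB : p₁ ∈ chevG2.borelSubgroup F
  · exact good_par_b h3 (mul_mem (hbp hB) h₂)
  obtain ⟨t, b, hb, rfl⟩ := par_cases h₁ hB
  have hP : (C.P F i0 : GL chevG2.Idx F) = nn 7 := by rw [Core.P, p_i0, nn]
  rw [p_i0, hP]
  have hXB : ∀ (n : Fin 12), n ∈ Pos → ∀ s : F, X n s ∈ chevG2.borelSubgroup F := fun n h s =>
    C.posUS_le_borel (by rw [← U_pos]; exact X_mem_U h s)
  set p := b * p₂ * X 7 t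
  have hp : p ∈ par i1 := mul_mem (mul_mem (hbp hb) h₂) (hbp (hXB 7 (by decide) t))
  refine Good.of_conj' (X_mem 7 (-t)) (g' := nn 7 * p) ?_ ?_
  · rw [X_inv, neg_neg]
    show X 7 (-t) * (X 7 t * nn 7 * b * p₂) * X 7 t = _
    rw [← X_inv]; simp only [p]; group
  clear_value p
  have hn7 : (nn 7 : GL chevG2.Idx F) = X 7 1 * X 4 (-1) * X 7 1 := by rw [nn_eq]; rfl
  by_cases hpB : p ∈ chevG2.borelSubgroup F
  · obtain ⟨x, y, u, hu, e'⟩ := mem_borel (mul_mem (mul_mem (hXB 7 (by decide) 1) hpB) (hXB 7 (by decide) 1))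
    refine Good.of_conj' (X_mem 7 (-1)) (g' := X 4 (-1) * T x y * u) ?_
      (good_A (neg_ne_zero.2 one_ne_zero) x y hu)
    rw [hn7, X_inv, neg_neg, mul_assoc (X 4 (-1)), ← e', ← X_inv]
    group
  obtain ⟨s, b', hb', rfl⟩ := par_cases hp hpB
  have hP' : (C.P F i1 : GL chevG2.Idx F) = nn 6 := by rw [Core.P, p_i1, nn]
  rw [p_i1, hP']
  obtain ⟨e10, -, h10⟩ := exists_nA_X (F := F) 6 10 (by decide)
  set b2 := b' * X 10 (e10 * s)
  have hb2 : b2 ∈ chevG2.borelSubgroup F := mul_mem hb' (hXB 10 (by decide) _)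
  refine Good.of_conj' (X_mem 10 (-(e10 * s))) (g' := nn 7 * (nn 6 * b2)) ?_ ?_
  · rw [X_inv, neg_neg]
    show X 10 (-(e10 * s)) * (nn 7 * (X 6 s * nn 6 * b')) * X 10 (e10 * s) = _
    rw [← mul_assoc (nn 7), ← mul_assoc (nn 7), h10, ← X_inv]
    simp only [b2]; group
  obtain ⟨e8, he8, h8⟩ := exists_nB_X (F := F) 8 7 (by decide)
  have h8' : X 7 1 * nn 6 = nn 6 * X 8 (1 / e8) := by rw [h8]; congr 2; field_simp
  obtain ⟨x, y, u, hu, e'⟩ := mem_borel (mul_mem (mul_mem (hXB 6 (by decide) 1)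
    (mul_mem (mul_mem (hXB 8 (by decide) (1 / e8)) hb2) (hXB 7 (by decide) 1))) (hXB 6 (by decide) 1))
  refine Good.of_conj' (mul_mem (X_mem 6 (-1)) (X_mem 7 (-1))) (g' := X 4 (-1) * X 5 (-1) * T x y * u) ?_
    (good_C (neg_ne_zero.2 one_ne_zero) (neg_ne_zero.2 one_ne_zero) x y hu)
  have hn6 : (nn 6 : GL chevG2.Idx F) = X 6 1 * X 5 (-1) * X 6 1 := by rw [nn_eq]; rfl
  rw [mul_assoc (X 4 (-1) * X 5 (-1)), ← e', _root_.mul_inv_rev, X_inv, X_inv, neg_neg]
  calc X 6 (-1) * X 7 (-1) * (nn 7 * (nn 6 * b2)) * (X 7 1 * X 6 1)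
      = X 6 (-1) * X 4 (-1) * (X 7 1 * nn 6) * b2 * X 7 1 * X 6 1 := by
        rw [hn7]
        simp only [mul_assoc]
        rw [← mul_assoc (X 7 (-1)) (X 7 1), X_add, neg_add_cancel, X_zero, one_mul]
    _ = (X 6 (-1) * X 4 (-1)) * nn 6 * X 8 (1 / e8) * b2 * X 7 1 * X 6 1 := by rw [h8']; group
    _ = _ := by rw [comm_X 6 4 (by decide), hn6, ← X_inv 6 1]; group

end Cfsg.Agent.Lib.G2Gauss
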