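import Cfsg.Agent.Lib.G2Gauss.Levi
import Cfsg.Agent.Lib.ChevFixed.Basic

/-!
Every element of G₂(q) is conjugate into P_a P_b: the trace of g on F[G/B] composed with the product of
the two parabolic projections is 1, because the cube of that product is the all-ones matrix in
characteristic p.
-/

set_option autoImplicit false
set_option maxRecDepth 100000
set_option linter.unusedSectionVars false

namespace Cfsg.Agent.Lib.G2Gauss

open Cfsg.Lie Cfsg.Agent.Lib.ChevStructure
open scoped MatrixGroups Matrix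
open DoubleCoset

variable {F : Type*} [Field F]

/-- B ∪ B n_i B. -/
noncomputable def par (i : Fin chevG2.rank) : Subgroup (GL chevG2.Idx F) :=
  Classical.choose (H.borel_union_cell (F := F) i)

theorem mem_par {i : Fin chevG2.rank} {g : GL chevG2.Idx F} :
    g ∈ par i ↔ g ∈ chevG2.borelSubgroup F ∨
      g ∈ doubleCoset (C.P F i) (chevG2.borelSubgroup F : Set (GL chevG2.Idx F)) (chevG2.borelSubgroup F) := by
  have h := Classical.choose_spec (H.borel_union_cell (F := F) i)
  rw [← SetLike.mem_coe, par, h]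
  rfl

theorem borel_le_par (i : Fin chevG2.rank) : chevG2.borelSubgroup F ≤ par i := fun _ hg => mem_par.2 (Or.inl hg)

theorem P_mem_par (i : Fin chevG2.rank) : C.P F i ∈ par i :=
  mem_par.2 (Or.inr (mem_doubleCoset.2 ⟨1, one_mem _, 1, one_mem _, by simp⟩))

theorem X_mem_borel {r : Rt chevG2} (h : r ∈ C.Pos) (t : F) : C.X F r t ∈ chevG2.borelSubgroup F :=
  C.posUS_le_borel (C.X_mem_US F h t)

/-- An element of P_i outside B is x(t) n_i b. -/
theorem par_cases {i : Fin chevG2.rank} {g : GL chevG2.Idx F} (hg : g ∈ par i)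
    (hB : g ∉ chevG2.borelSubgroup F) :
    ∃ t : F, ∃ b ∈ chevG2.borelSubgroup F, g = C.X F (C.p i) t * C.P F i * b := by
  obtain ⟨x, hx, y, hy, rfl⟩ := mem_doubleCoset.1 ((mem_par.1 hg).resolve_left hB)
  obtain ⟨v, hv, k, hk, rfl⟩ := C.mem_borel_iff.1 hx
  obtain ⟨a, ha, t, rfl⟩ := H.exists_split_p i hv
  have hP : C.Acts (C.P F i) (C.sref i) := by simpa [Core.wprod, Core.pprod] using C.acts_wprod F [i]
  -- move `a` to the right of `x(t)` and through `n_i`
  have ha' : (C.X F (C.p i) t)⁻¹ * a * C.X F (C.p i) t ∈ C.US F (C.posBut i) := by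
    have := (Subgroup.mem_normalizer_iff.1 (inv_mem (H.mem_normalizer (C.absorb_p i) t)) a).1 ha
    simpa [mul_assoc] using this
  obtain ⟨c, rfl⟩ := C.mem_diagonal_iff.1 hk
  obtain ⟨c', hc'⟩ := C.P_HT F i c
  obtain ⟨e, he⟩ := C.P_inv F i
  have hPi : C.Acts (C.P F i)⁻¹ (C.sref i)⁻¹ := C.acts_inv F hP
  have ha'' : (C.P F i)⁻¹ * ((C.X F (C.p i) t)⁻¹ * a * C.X F (C.p i) t) * C.P F i ∈ chevG2.borelSubgroup F := by
    have := C.conj_mem_US F hPi (T := C.Pos) (fun r hr => ?_) ha'
    · rw [inv_inv] at this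
      exact C.posUS_le_borel this
    · show (C.sref i)⁻¹ r ∈ C.Pos
      rw [inv_eq_of_mul_eq_one_right (C.sref_mul_self i)]
      exact (C.w_posBut hr).1
  obtain ⟨d, hd⟩ : ∃ d, C.HT F c * C.P F i = C.P F i * C.HT F d := by
    obtain ⟨d, hd⟩ := C.P_HT F i c
    obtain ⟨f, hf⟩ := C.P_sq F i
    refine ⟨f⁻¹ * d * f, ?_⟩
    have e1 : C.P F i * C.P F i * C.HT F (f⁻¹ * d * f) = C.P F i * C.HT F c * C.P F i := by
      rw [hd, mul_assoc (C.HT F d), hf, C.HT_mul, C.HT_mul]
      congr 1
      funext j
      simp [mul_comm, mul_left_comm]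
    calc C.HT F c * C.P F i = (C.P F i)⁻¹ * (C.P F i * C.HT F c * C.P F i) := by group
      _ = _ := by rw [← e1]; group
  refine ⟨t, _, mul_mem ha'' (mul_mem (C.diagonal_le_borel (C.HT_mem_diagonal d)) hy), ?_⟩
  rw [show a * C.X F (C.p i) t * C.HT F c * C.P F i * y =
    a * C.X F (C.p i) t * (C.HT F c * C.P F i) * y by group, hd]
  group

/-! ### Cosets -/

variable (F)

/-- The group. -/
abbrev GG : Type _ := ↥(chevG2.group F)

/-- B inside the group. -/
noncomputable abbrev BB : Subgroup (GG F) := (chevG2.borelSubgroup F).subgroupOf (chevG2.group F)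

/-- The flags. -/
abbrev Flag : Type _ := GG F ⧸ BB F

variable {F}

open scoped Classical in
/-- Adjacency along P_i. -/
noncomputable def KK (i : Fin chevG2.rank) : Matrix (Flag F) (Flag F) F :=
  Matrix.of fun x y => if ((x.out)⁻¹ * y.out : GG F).1 ∈ par i then 1 else 0

open scoped Classical in
theorem KK_mk (i : Fin chevG2.rank) (g h : GG F) :
    KK i (g : Flag F) (h : Flag F) = if (g⁻¹ * h).1 ∈ par i then 1 else 0 := by
  obtain ⟨a, ha⟩ := QuotientGroup.mk_out_eq_mul (BB F) g
  obtain ⟨b, hb⟩ := QuotientGroup.mk_out_eq_mul (BB F) h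
  simp only [KK, Matrix.of_apply, ha, hb]
  have ha' : a.1.1 ∈ par i := borel_le_par i (Subgroup.mem_subgroupOf.1 a.2)
  have hb' : b.1.1 ∈ par i := borel_le_par i (Subgroup.mem_subgroupOf.1 b.2)
  have : ((g * a.1)⁻¹ * (h * b.1) : GG F).1 ∈ par i ↔ (g⁻¹ * h).1 ∈ par i := by
    have e : ((g * a.1)⁻¹ * (h * b.1) : GG F).1 = (a.1.1)⁻¹ * (g⁻¹ * h).1 * b.1.1 := by
      simp [mul_assoc]
    rw [e, Subgroup.mul_mem_cancel_right _ hb', Subgroup.mul_mem_cancel_left _ (inv_mem ha')]
  simp only [this]

theorem KK_smul (i : Fin chevG2.rank) (g : GG F) (x y : Flag F) : KK i (g • x) (g • y) = KK i x y := by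
  induction x using QuotientGroup.induction_on with
  | H a =>
    induction y using QuotientGroup.induction_on with
    | H b =>
      rw [MulAction.Quotient.smul_coe, MulAction.Quotient.smul_coe, KK_mk, KK_mk, smul_eq_mul, smul_eq_mul,
        show (g * a)⁻¹ * (g * b) = a⁻¹ * b by group]

theorem KK_symm (i : Fin chevG2.rank) (x y : Flag F) : KK i x y = KK i y x := by
  induction x using QuotientGroup.induction_on with
  | H a =>
    induction y using QuotientGroup.induction_on with
    | H b =>
      rw [KK_mk, KK_mk]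
      have : (a⁻¹ * b).1 ∈ par i ↔ (b⁻¹ * a).1 ∈ par i := by
        rw [← Subgroup.inv_mem_iff (par i), ← InvMemClass.coe_inv, _root_.mul_inv_rev, inv_inv]
      by_cases h : (a⁻¹ * b).1 ∈ par i
      · rw [if_pos h, if_pos (this.1 h)]
      · rw [if_neg h, if_neg (fun h' => h (this.2 h'))]

/-- The elements representing the flags adjacent to g. -/
noncomputable def nbr (i : Fin chevG2.rank) (g : GG F) : Option F → GG F
  | none => g
  | some t => g * ⟨C.X F (C.p i) t * C.P F i, mul_mem (C.X_mem_group _ _) (C.nR_mem_group _ _)⟩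

variable [Fintype F]

theorem sum_KK (i : Fin chevG2.rank) (g : GG F) (f : Flag F → F) [Fintype (Flag F)] :
    ∑ x, f x * KK i x (g : Flag F) = ∑ o : Option F, f (nbr i g o : Flag F) := by
  classical
  have hone : ∀ o, ((nbr i g o)⁻¹ * g).1 ∈ par i := by
    intro o
    rw [← Subgroup.inv_mem_iff]
    cases o with
    | none =>
      simp only [nbr, inv_mul_cancel, OneMemClass.coe_one, inv_one]
      exact one_mem _
    | some t =>
      simp only [nbr, mul_inv_rev, inv_inv, InvMemClass.coe_inv, MulMemClass.coe_mul]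
      have : (g.1)⁻¹ * (g.1 * (C.X F (C.p i) t * C.P F i)) = C.X F (C.p i) t * C.P F i := by group
      rw [this]
      exact mul_mem (borel_le_par i (X_mem_borel (C.p_pos i) t)) (P_mem_par i)
  have hnotB : ∀ t : F, C.X F (C.p i) t * C.P F i ∉ chevG2.borelSubgroup F := by
    intro t h
    have hP : C.P F i ∈ chevG2.borelSubgroup F := by
      have := mul_mem (inv_mem (X_mem_borel (F := F) (C.p_pos i) t)) h
      rwa [inv_mul_cancel_left] at this
    exact C.P_X_P_not_mem i (mul_mem (mul_mem hP (X_mem_borel (C.p_pos i) _)) hP)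
  have hinj : Function.Injective fun o => (nbr i g o : Flag F) := by
    intro o o' h
    have h' := QuotientGroup.eq.1 h
    rw [Subgroup.mem_subgroupOf] at h'
    cases o with
    | none =>
      cases o' with
      | none => rfl
      | some t =>
        exfalso
        simp only [nbr, inv_mul_cancel_left] at h'
        exact hnotB t h'
    | some t =>
      cases o' with
      | none =>
        exfalso
        simp only [nbr, mul_inv_rev, inv_mul_cancel_right] at h'
        exact hnotB t ((chevG2.borelSubgroup F).inv_mem_iff.1 h')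
      | some s =>
        simp only [nbr, mul_inv_rev, mul_assoc, inv_mul_cancel_left, InvMemClass.coe_inv,
          MulMemClass.coe_mul] at h'
        have e : (C.P F i)⁻¹ * ((C.X F (C.p i) t)⁻¹ * (C.X F (C.p i) s * C.P F i)) =
            (C.P F i)⁻¹ * C.X F (C.p i) (-t + s) * C.P F i := by
          rw [← C.X_add, C.X_inv]; group
        rw [e] at h'
        have hP : C.Acts (C.P F i) (C.sref i) := by simpa [Core.wprod, Core.pprod] using C.acts_wprod F [i]
        obtain ⟨ε, hε⟩ := C.acts_inv F hP (C.p i)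
        have h2 := hε (-t + s)
        rw [inv_inv] at h2
        rw [h2, inv_eq_of_mul_eq_one_right (C.sref_mul_self i)] at h'
        have hneg : C.X F (C.sref i (C.p i)) ((ε : F) * (-t + s)) ∈ C.US F C.Neg := by
          refine C.X_mem_US F ?_ _
          rw [C.sref_apply, C.w_p]
          exact C.rev_neg (C.p_pos i)
        have h1 : C.X F (C.sref i (C.p i)) ((ε : F) * (-t + s)) = 1 := by
          rw [← Subgroup.mem_bot, ← C.borel_inf_negUS]
          exact Subgroup.mem_inf.2 ⟨h', hneg⟩
        have := (mul_eq_zero.1 (C.X_eq_one h1)).resolve_left (Units.ne_zero ε)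
        congr 1
        linear_combination -this
  calc ∑ x, f x * KK i x (g : Flag F) = ∑ x ∈ Finset.univ.image (fun o => (nbr i g o : Flag F)), f x := by
        refine (Finset.sum_subset_zero_on_sdiff (Finset.subset_univ _) ?_ ?_).symm
        · intro x hx
          rw [Finset.mem_sdiff] at hx
          induction x using QuotientGroup.induction_on with
          | H a =>
            rw [KK_mk, if_neg, mul_zero]
            intro ha
            apply hx.2
            rw [← Subgroup.inv_mem_iff] at ha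
            have ha' : (g⁻¹ * a).1 ∈ par i := by simpa using ha
            rw [Finset.mem_image]
            by_cases hB : (g⁻¹ * a).1 ∈ chevG2.borelSubgroup F
            · exact ⟨none, Finset.mem_univ _, QuotientGroup.eq.2 (by rwa [Subgroup.mem_subgroupOf])⟩
            · obtain ⟨t, b, hb, e⟩ := par_cases ha' hB
              refine ⟨some t, Finset.mem_univ _, QuotientGroup.eq.2 ?_⟩
              rw [Subgroup.mem_subgroupOf]
              simp only [nbr, mul_inv_rev, InvMemClass.coe_inv, MulMemClass.coe_mul, mul_assoc] at e ⊢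
              rw [e]
              simpa [mul_assoc] using hb
        · intro x hx
          obtain ⟨o, -, rfl⟩ := Finset.mem_image.1 hx
          rw [KK_mk, if_pos (hone o), mul_one]
    _ = _ := Finset.sum_image fun o _ o' _ h => hinj h

theorem sum_KK_one (i : Fin chevG2.rank) (y : Flag F) [Fintype (Flag F)] : ∑ x, KK i x y = 1 := by
  induction y using QuotientGroup.induction_on with
  | H g =>
    have := sum_KK i g (fun _ => (1 : F))
    simp only [one_mul] at this
    rw [this]
    simp [Finset.sum_const, Fintype.card_option, FiniteField.cast_card_eq_zero]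

/-! ### The Weyl group -/

/-- A simple reflection on root indices. -/
def wv (i : Fin chevG2.rank) (n : Fin 12) : Fin 12 := Fin.ofNat 12 (chevG2.reflectRoot i.val n.val)

/-- The action of a word on root indices. -/
def wl (L : List (Fin chevG2.rank)) (n : Fin 12) : Fin 12 := L.foldr wv n

theorem w_rt (i : Fin chevG2.rank) (n : Fin 12) : C.w i (rt n) = rt (wv i n) := by
  refine Fin.ext ?_
  have h := C.w_eq i (rt n)
  have hlt : chevG2.reflectRoot i.val n.val < 12 := by
    rw [show n.val = (rt n).val from rfl, h]; exact (C.w i (rt n)).isLt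
  show _ = chevG2.reflectRoot i.val n.val % 12
  rw [Nat.mod_eq_of_lt hlt, ← h]
  rfl

theorem pprod_rt (L : List (Fin chevG2.rank)) (n : Fin 12) : C.pprod L (rt n) = rt (wl L n) := by
  induction L with
  | nil => rfl
  | cons i L ih =>
    rw [C.pprod_cons, Equiv.Perm.mul_apply, ih, C.sref_apply, w_rt]
    rfl

/-- The index of a simple root. -/
def pidx (i : Fin chevG2.rank) : Fin 12 := if i.val = 0 then 7 else 6

theorem p_eq (i : Fin chevG2.rank) : C.p i = rt (pidx i) := by
  rcases i with ⟨_ | _ | k, hk⟩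
  · exact p_i0
  · exact p_i1
  · exact absurd hk (by show ¬ k + 2 < 2; omega)

/-- One step down: right multiplication by the reflection if that shortens the word. -/
def desc (i : Fin chevG2.rank) (f : Fin 12 → Fin 12) : Fin 12 → Fin 12 :=
  if 6 ≤ (f (pidx i)).val then f else f ∘ wv i

theorem wl_concat (L : List (Fin chevG2.rank)) (i : Fin chevG2.rank) : wl (L ++ [i]) = wl L ∘ wv i := by
  funext n; simp [wl]

/-- Six alternating steps lead to the identity. -/
def descAll (f : Fin 12 → Fin 12) : Fin 12 → Fin 12 :=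
  desc i0 (desc i1 (desc i0 (desc i1 (desc i0 (desc i1 f)))))

/-- The twelve elements of the Weyl group. -/
def weyl : List (List (Fin chevG2.rank)) :=
  [[], [i0], [i1], [i0, i1], [i1, i0], [i0, i1, i0], [i1, i0, i1], [i0, i1, i0, i1], [i1, i0, i1, i0],
    [i0, i1, i0, i1, i0], [i1, i0, i1, i0, i1], [i0, i1, i0, i1, i0, i1]]

theorem weyl_closed : ∀ i : Fin 2, ∀ L ∈ weyl, ∃ M ∈ weyl, ∀ n, wv i (wl L n) = wl M n := by
  decide +kernel

theorem weyl_desc : ∀ L ∈ weyl, ∀ n, descAll (wl L) n = n := by
  decide +kernel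

theorem exists_weyl (L : List (Fin chevG2.rank)) : ∃ M ∈ weyl, wl L = wl M := by
  induction L with
  | nil => exact ⟨[], List.mem_cons_self .., rfl⟩
  | cons i L ih =>
    obtain ⟨M, hM, e⟩ := ih
    obtain ⟨M', hM', e'⟩ := weyl_closed i M hM
    refine ⟨M', hM', funext fun n => ?_⟩
    show wv i (wl L n) = _
    rw [e, e']

/-- A representative of a word. -/
noncomputable def wrep (L : List (Fin chevG2.rank)) : GG F :=
  ⟨C.wprod F L, list_prod_mem fun g hg => by
    rw [List.mem_map] at hg
    obtain ⟨i, -, rfl⟩ := hg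
    exact C.nR_mem_group _ _⟩

/-- The functions on flags invariant under B. -/
def BInv (f : Flag F → F) : Prop :=
  ∀ b : GG F, b.1 ∈ chevG2.borelSubgroup F → ∀ x, f (b • x) = f x

theorem BInv.step [Fintype (Flag F)] {f : Flag F → F} (hf : BInv f) (i : Fin chevG2.rank) :
    BInv (Matrix.vecMul f (KK i)) := by
  intro b hb y
  simp only [Matrix.vecMul, dotProduct]
  refine Fintype.sum_equiv (MulAction.toPerm b⁻¹) _ _ fun x => ?_
  simp only [MulAction.toPerm_apply]
  rw [hf b⁻¹ (by simpa using inv_mem hb), ← KK_smul i b⁻¹ x (b • y), inv_smul_smul]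

theorem vecMul_wrep [Fintype (Flag F)] {f : Flag F → F} (hf : BInv f) (i : Fin chevG2.rank)
    (L : List (Fin chevG2.rank)) :
    ∃ M : List (Fin chevG2.rank), wl M = desc i (wl L) ∧
      Matrix.vecMul f (KK i) ((wrep L : GG F) : Flag F) = f ((wrep M : GG F) : Flag F) := by
  have main : ∀ M : List (Fin chevG2.rank), C.pprod M (C.p i) ∈ C.Pos →
      Matrix.vecMul f (KK i) ((wrep M : GG F) : Flag F) = f ((wrep M : GG F) : Flag F) := by
    intro M hM
    simp only [Matrix.vecMul, dotProduct]
    rw [sum_KK i (wrep M) f, Fintype.sum_option]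
    have hc : ∀ t : F, f ((nbr i (wrep M) (some t) : GG F) : Flag F) =
        f ((nbr i (wrep M) (some (0 : F)) : GG F) : Flag F) := by
      intro t
      obtain ⟨ε, hε⟩ := C.acts_wprod F M (C.p i)
      let b : GG F := ⟨C.X F (C.pprod M (C.p i)) ((ε : F) * t), C.X_mem_group _ _⟩
      have e : nbr i (wrep M) (some t) = b * nbr i (wrep M) (some 0) := by
        refine Subtype.ext ?_
        show C.wprod F M * (C.X F (C.p i) t * C.P F i) =
          C.X F (C.pprod M (C.p i)) ((ε : F) * t) * (C.wprod F M * (C.X F (C.p i) 0 * C.P F i))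
        rw [← hε t, C.X_zero]
        group
      rw [e, ← smul_eq_mul, ← MulAction.Quotient.smul_coe]
      exact hf b (X_mem_borel hM _) _
    simp only [hc, Finset.sum_const, Finset.card_univ, nsmul_eq_mul, FiniteField.cast_card_eq_zero, zero_mul,
      add_zero]
    rfl
  by_cases h : 6 ≤ (wl L (pidx i)).val
  · refine ⟨L, by rw [desc, if_pos h], main L ?_⟩
    rw [p_eq, pprod_rt]
    show 12 ≤ 2 * (wl L (pidx i)).val
    omega
  · refine ⟨L ++ [i], by rw [desc, if_neg h, wl_concat], ?_⟩
    have hpos : C.pprod (L ++ [i]) (C.p i) ∈ C.Pos := by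
      rw [C.pprod_concat, Equiv.Perm.mul_apply, C.sref_apply, C.w_p, C.pprod_rev, p_eq, pprod_rt]
      show 12 ≤ 2 * ((rt (wl L (pidx i))).rev).val
      rw [rt_rev, show ((rt ((wl L (pidx i)).rev)).val) = ((wl L (pidx i)).rev).val from rfl, Fin.val_rev]
      omega
    refine Eq.trans ?_ (main _ hpos)
    simp only [Matrix.vecMul, dotProduct]
    refine Finset.sum_congr rfl fun x _ => ?_
    congr 1
    induction x using QuotientGroup.induction_on with
    | H a =>
      rw [KK_mk, KK_mk]
      have e : (a⁻¹ * wrep (L ++ [i])).1 = (a⁻¹ * wrep L).1 * C.P F i := by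
        show (a.1)⁻¹ * C.wprod F (L ++ [i]) = (a.1)⁻¹ * C.wprod F L * C.P F i
        rw [C.wprod_append]
        simp [Core.wprod, mul_assoc]
      have : (a⁻¹ * wrep L).1 ∈ par i ↔ (a⁻¹ * wrep (L ++ [i])).1 ∈ par i := by
        rw [e, Subgroup.mul_mem_cancel_right _ (P_mem_par i)]
      by_cases h : (a⁻¹ * wrep L).1 ∈ par i
      · rw [if_pos h, if_pos (this.1 h)]
      · rw [if_neg h, if_neg (fun h' => h (this.2 h'))]

theorem KK_mul_smul [Fintype (Flag F)] {M N : Matrix (Flag F) (Flag F) F}
    (hM : ∀ (g : GG F) x y, M (g • x) (g • y) = M x y) (hN : ∀ (g : GG F) x y, N (g • x) (g • y) = N x y)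
    (g : GG F) (x y : Flag F) : (M * N) (g • x) (g • y) = (M * N) x y := by
  simp only [Matrix.mul_apply]
  refine (Fintype.sum_equiv (MulAction.toPerm g) _ _ fun z => ?_).symm
  simp only [MulAction.toPerm_apply, hM, hN]

/-- The product along a b a b a b is the all-ones matrix. -/
theorem cube_eq [Fintype (Flag F)] (x y : Flag F) :
    ((KK i0 * KK i1 * KK i0 * KK i1 * KK i0 * KK i1 : Matrix (Flag F) (Flag F) F)) x y = 1 := by
  classical
  set M6 := KK (F := F) i0 * KK i1 * KK i0 * KK i1 * KK i0 * KK i1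
  suffices h : ∀ g : GG F, M6 ((1 : GG F) : Flag F) (g : Flag F) = 1 by
    induction x using QuotientGroup.induction_on with
    | H a =>
      induction y using QuotientGroup.induction_on with
      | H b =>
        have hinv : ∀ (g : GG F) x y, M6 (g • x) (g • y) = M6 x y :=
          KK_mul_smul (KK_mul_smul (KK_mul_smul (KK_mul_smul (KK_mul_smul (KK_smul _) (KK_smul _))
            (KK_smul _)) (KK_smul _)) (KK_smul _)) (KK_smul _)
        have := hinv a ((1 : GG F) : Flag F) ((a⁻¹ * b : GG F) : Flag F)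
        rw [MulAction.Quotient.smul_coe, MulAction.Quotient.smul_coe, smul_eq_mul, smul_eq_mul, mul_one,
          mul_inv_cancel_left] at this
        rw [this]
        exact h _
  intro g
  set f0 : Flag F → F := Pi.single ((1 : GG F) : Flag F) 1 with hf0
  have inv0 : BInv f0 := by
    intro b hb x
    have hfix : b • ((1 : GG F) : Flag F) = ((1 : GG F) : Flag F) := by
      rw [MulAction.Quotient.smul_coe, smul_eq_mul, mul_one]
      exact QuotientGroup.eq.2 (by simpa [Subgroup.mem_subgroupOf] using hb)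
    by_cases hx : x = ((1 : GG F) : Flag F)
    · rw [hx, hfix]
    · rw [hf0, Pi.single_eq_of_ne hx, Pi.single_eq_of_ne]
      intro e
      exact hx (MulAction.injective b (e.trans hfix.symm))
  have inv1 := inv0.step i0
  have inv2 := inv1.step i1
  have inv3 := inv2.step i0
  have inv4 := inv3.step i1
  have inv5 := inv4.step i0
  have inv6 := inv5.step i1
  have hrow : M6 ((1 : GG F) : Flag F) = Matrix.vecMul f0 M6 := by rw [hf0, Matrix.single_one_vecMul]; rfl
  rw [hrow]
  simp only [M6, ← Matrix.vecMul_vecMul]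
  obtain ⟨v, c, L, u, hv, hu, hg⟩ := ChevFixed.Basic.exists_normalForm H g.2
  have hgL : Matrix.vecMul (Matrix.vecMul (Matrix.vecMul (Matrix.vecMul (Matrix.vecMul (Matrix.vecMul f0
      (KK i0)) (KK i1)) (KK i0)) (KK i1)) (KK i0)) (KK i1) (g : Flag F) =
    Matrix.vecMul (Matrix.vecMul (Matrix.vecMul (Matrix.vecMul (Matrix.vecMul (Matrix.vecMul f0
      (KK i0)) (KK i1)) (KK i0)) (KK i1)) (KK i0)) (KK i1) ((wrep L : GG F) : Flag F) := by
    have hb : v * C.HT F c ∈ chevG2.borelSubgroup F :=
      mul_mem (C.posUS_le_borel hv) (C.diagonal_le_borel (C.HT_mem_diagonal c))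
    let b : GG F := ⟨v * C.HT F c, C.borel_le_group hb⟩
    have e : (g : Flag F) = b • ((wrep L : GG F) : Flag F) := by
      rw [MulAction.Quotient.smul_coe, smul_eq_mul, QuotientGroup.eq, Subgroup.mem_subgroupOf]
      have hu' : u ∈ chevG2.borelSubgroup F := C.posUS_le_borel (C.US_mono F (fun r hr => hr.1) hu)
      have : (g⁻¹ * (b * wrep L)).1 = u⁻¹ := by
        show (g.1)⁻¹ * (v * C.HT F c * C.wprod F L) = u⁻¹
        rw [hg]; group
      rw [this]
      exact inv_mem hu'
    rw [e]
    exact inv6 b hb _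
  rw [hgL]
  obtain ⟨L5, e5, h5⟩ := vecMul_wrep inv5 i1 L
  obtain ⟨L4, e4, h4⟩ := vecMul_wrep inv4 i0 L5
  obtain ⟨L3, e3, h3⟩ := vecMul_wrep inv3 i1 L4
  obtain ⟨L2, e2, h2⟩ := vecMul_wrep inv2 i0 L3
  obtain ⟨L1, e1, h1⟩ := vecMul_wrep inv1 i1 L2
  obtain ⟨L0, e0, h0⟩ := vecMul_wrep inv0 i0 L1
  rw [h5, h4, h3, h2, h1, h0]
  obtain ⟨M, hM, eM⟩ := exists_weyl L
  have hid : wl L0 = id := by
    funext n
    rw [e0, e1, e2, e3, e4, e5, eM]
    exact weyl_desc M hM n
  have hperm : C.pprod L0 = 1 := Equiv.ext fun r => by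
    obtain ⟨n, rfl⟩ := rt_surj r
    rw [pprod_rt, hid]; rfl
  obtain ⟨d, hd⟩ := C.wprod_eq_HT_of_pprod_eq_one F hperm
  have : ((wrep L0 : GG F) : Flag F) = ((1 : GG F) : Flag F) := by
    rw [QuotientGroup.eq, Subgroup.mem_subgroupOf]
    simp only [mul_one, InvMemClass.coe_inv, wrep, hd]
    exact inv_mem (C.diagonal_le_borel (C.HT_mem_diagonal d))
  rw [this, hf0, Pi.single_eq_same]

/-- Every element is conjugate to a product p₁ p₂ with p₁ ∈ P_a and p₂ ∈ P_b. -/
theorem exists_conj_par {g : GL chevG2.Idx F} (hg : g ∈ chevG2.group F) :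
    ∃ k ∈ chevG2.group F, ∃ p₁ ∈ par i0, ∃ p₂ ∈ par i1, k * g * k⁻¹ = p₁ * p₂ := by
  classical
  haveI : Finite (GG F) := inferInstance
  haveI : Fintype (Flag F) := Fintype.ofFinite _
  let M : Matrix (Flag F) (Flag F) F := KK i0 * KK i1
  let J : Matrix (Flag F) (Flag F) F := Matrix.of fun _ _ => 1
  have hJK : ∀ i, J * KK i = J := fun i => by
    ext x y
    simp [J, Matrix.mul_apply, sum_KK_one]
  have hKJ : ∀ i, KK i * J = J := fun i => by
    ext x y
    simp only [J, Matrix.mul_apply, Matrix.of_apply, mul_one]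
    simp_rw [KK_symm i x]
    exact sum_KK_one i x
  have hJM : J * M = J := by rw [← mul_assoc, hJK, hJK]
  have hMJ : M * J = J := by rw [mul_assoc, hKJ, hKJ]
  have hM3 : M ^ 3 = J := by
    ext x y
    rw [show M ^ 3 = (KK i0 * KK i1 * KK i0 * KK i1 * KK i0 * KK i1 : Matrix (Flag F) (Flag F) F) by
      simp [M, pow_succ, mul_assoc], cube_eq]
    rfl
  have hJJ : J * J = J := by
    have e : ∀ n : ℕ, J * M ^ n = J := fun n => by
      induction n with
      | zero => simp
      | succ n ih => rw [pow_succ, ← mul_assoc, ih, hJM]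
    have e3 := e 3
    rwa [hM3] at e3
  have hnil : (M - J) ^ 3 = 0 := by
    have e2 : (M - J) ^ 2 = M * M - J := by
      rw [pow_two, sub_mul, mul_sub, mul_sub, hMJ, hJM, hJJ]; abel
    rw [pow_succ, e2, sub_mul, mul_sub, mul_sub, mul_assoc M M J, hMJ, hMJ, hJM, hJJ, ← hM3]
    simp [pow_succ, mul_assoc]
  let g' : GG F := ⟨g, hg⟩⁻¹
  let P : Matrix (Flag F) (Flag F) F := Matrix.of fun x y => if y = g' • x then 1 else 0
  have hPmul : ∀ A : Matrix (Flag F) (Flag F) F, ∀ x y, (P * A) x y = A (g' • x) y := by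
    intro A x y; simp [P, Matrix.mul_apply]
  have hcomm : Commute P (M - J) := by
    ext x y
    rw [hPmul]
    simp only [P, Matrix.mul_apply, Matrix.of_apply, mul_ite, mul_one, mul_zero]
    rw [Finset.sum_eq_single (g'⁻¹ • y)]
    · rw [if_pos (smul_inv_smul _ _).symm]
      have hMi := KK_mul_smul (KK_smul (F := F) i0) (KK_smul i1) g' x (g'⁻¹ • y)
      rw [smul_inv_smul] at hMi
      simp only [Matrix.sub_apply, J, Matrix.of_apply, M, hMi]
    · intro z _ hz
      rw [if_neg]
      intro e
      exact hz (by rw [e, inv_smul_smul])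
    · simp
  have htr : (P * (M - J)).trace = 0 := by
    have h : IsNilpotent (P * (M - J)) := hcomm.isNilpotent_mul_left ⟨3, hnil⟩
    exact IsNilpotent.eq_zero (Matrix.isNilpotent_trace_of_isNilpotent h)
  have hcard : (Fintype.card (Flag F) : F) = 1 := by
    haveI : Nonempty (Flag F) := ⟨((1 : GG F) : Flag F)⟩
    obtain ⟨x⟩ : Nonempty (Flag F) := inferInstance
    have := congrFun (congrFun hJJ x) x
    simpa [J, Matrix.mul_apply] using this
  obtain ⟨x, hx⟩ : ∃ x, M (g' • x) x ≠ 0 := by
    by_contra hall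
    simp only [not_exists, not_not] at hall
    rw [Matrix.trace] at htr
    simp only [Matrix.diag, hPmul, Matrix.sub_apply, hall, zero_sub, J, Matrix.of_apply, Finset.sum_const,
      Finset.card_univ, nsmul_eq_mul, mul_neg, mul_one, neg_eq_zero, hcard] at htr
    exact one_ne_zero htr
  induction x using QuotientGroup.induction_on with
  | H a =>
    rw [MulAction.Quotient.smul_coe, smul_eq_mul] at hx
    simp only [M, Matrix.mul_apply] at hx
    obtain ⟨z, -, hz⟩ := Finset.exists_ne_zero_of_sum_ne_zero hx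
    induction z using QuotientGroup.induction_on with
    | H c =>
      rw [KK_mk, KK_mk] at hz
      have h1 : ((g' * a)⁻¹ * c).1 ∈ par i0 := by
        by_contra h; rw [if_neg h, zero_mul] at hz; exact hz rfl
      have h2 : (c⁻¹ * a).1 ∈ par i1 := by
        by_contra h; rw [if_neg (show ¬ (c⁻¹ * a).1 ∈ par i1 from h), mul_zero] at hz; exact hz rfl
      refine ⟨a.1⁻¹, inv_mem a.2, _, h1, _, h2, ?_⟩
      simp [g', mul_assoc]

end Cfsg.Agent.Lib.G2Gauss
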